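import Groth.Agent.DegenGenLib.Main
import Groth.Agent.S17486

/-!
# Homomorphisms between direct sums
-/

set_option autoImplicit false
set_option linter.style.haveILetI false
set_option backward.isDefEq.respectTransparency false
set_option backward.isDefEq.respectTransparency.types false

noncomputable section

universe u

open CategoryTheory CategoryTheory.Limits AlgebraicGeometry TopologicalSpace Opposite
open Groth.Agent.S17486 (lin lin_comp lin_add lin_id lin_zero)

namespace DegenGenLib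

variable {k : Type u} [Field k] {X : Scheme.{u}} [X.Over (Spec (CommRingCat.of k))] {U : X.Opens}

/-- Sections of a direct sum. -/
def biprodSec (P Q : X.Modules) : Γ(P ⊞ Q, U) ≃ₗ[Γ(X, U)] Γ(P, U) × Γ(Q, U) :=
  LinearEquiv.ofLinear ((lin biprod.fst U).prod (lin biprod.snd U)) ((lin biprod.inl U).coprod (lin biprod.inr U))
    (LinearMap.prod_ext
      (by
        rw [LinearMap.comp_assoc, LinearMap.coprod_inl, LinearMap.id_comp, LinearMap.prod_comp, ← lin_comp,
          ← lin_comp, biprod.inl_fst, biprod.inl_snd, lin_id, lin_zero]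
        rfl)
      (by
        rw [LinearMap.comp_assoc, LinearMap.coprod_inr, LinearMap.id_comp, LinearMap.prod_comp, ← lin_comp,
          ← lin_comp, biprod.inr_fst, biprod.inr_snd, lin_id, lin_zero]
        rfl))
    (by
      rw [LinearMap.coprod_comp_prod, ← lin_comp, ← lin_comp, ← lin_add, biprod.total, lin_id])

/-- A basis of the sections of a direct sum. -/
def biprodBasis {P Q : X.Modules} {p q : ℕ} (bP : Module.Basis (Fin p) Γ(X, U) Γ(P, U))
    (bQ : Module.Basis (Fin q) Γ(X, U) Γ(Q, U)) : Module.Basis (Fin (p + q)) Γ(X, U) Γ(P ⊞ Q, U) :=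
  ((bP.prod bQ).map (biprodSec P Q).symm).reindex finSumFinEquiv

variable {P Q : X.Modules} {p q : ℕ} (bP : Module.Basis (Fin p) Γ(X, U) Γ(P, U))
  (bQ : Module.Basis (Fin q) Γ(X, U) Γ(Q, U))

theorem biprodBasis_left (j : Fin p) : biprodBasis bP bQ (Fin.castAdd q j) = lin biprod.inl U (bP j) := by
  rw [biprodBasis, Module.Basis.reindex_apply, finSumFinEquiv_symm_apply_castAdd, Module.Basis.map_apply]
  show lin biprod.inl U ((bP.prod bQ (Sum.inl j)).1) + lin biprod.inr U ((bP.prod bQ (Sum.inl j)).2) = _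
  simp

theorem biprodBasis_right (j : Fin q) : biprodBasis bP bQ (Fin.natAdd p j) = lin biprod.inr U (bQ j) := by
  rw [biprodBasis, Module.Basis.reindex_apply, finSumFinEquiv_symm_apply_natAdd, Module.Basis.map_apply]
  show lin biprod.inl U ((bP.prod bQ (Sum.inr j)).1) + lin biprod.inr U ((bP.prod bQ (Sum.inr j)).2) = _
  simp

theorem biprodBasis_repr_left (y : Γ(P ⊞ Q, U)) (i : Fin p) :
    (biprodBasis bP bQ).repr y (Fin.castAdd q i) = bP.repr (lin biprod.fst U y) i := by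
  rw [biprodBasis, Module.Basis.repr_reindex_apply, finSumFinEquiv_symm_apply_castAdd]
  show (bP.prod bQ).repr (biprodSec P Q y) (Sum.inl i) = _
  simp [biprodSec]

theorem biprodBasis_repr_right (y : Γ(P ⊞ Q, U)) (i : Fin q) :
    (biprodBasis bP bQ).repr y (Fin.natAdd p i) = bQ.repr (lin biprod.snd U y) i := by
  rw [biprodBasis, Module.Basis.repr_reindex_apply, finSumFinEquiv_symm_apply_natAdd]
  show (bP.prod bQ).repr (biprodSec P Q y) (Sum.inr i) = _
  simp [biprodSec]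

variable {P' Q' : X.Modules} {p' q' : ℕ} (bP' : Module.Basis (Fin p') Γ(X, U) Γ(P', U))
  (bQ' : Module.Basis (Fin q') Γ(X, U) Γ(Q', U)) (φ : P ⊞ Q ⟶ P' ⊞ Q')

theorem mat_ll (i : Fin p') (j : Fin p) :
    mat (biprodBasis bP bQ) (biprodBasis bP' bQ') φ (Fin.castAdd q' i) (Fin.castAdd q j) =
      mat bP bP' (biprod.inl ≫ φ ≫ biprod.fst) i j := by
  rw [mat_apply, mat_apply, biprodBasis_left, biprodBasis_repr_left]
  rfl

theorem mat_rl (i : Fin q') (j : Fin p) :
    mat (biprodBasis bP bQ) (biprodBasis bP' bQ') φ (Fin.natAdd p' i) (Fin.castAdd q j) =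
      mat bP bQ' (biprod.inl ≫ φ ≫ biprod.snd) i j := by
  rw [mat_apply, mat_apply, biprodBasis_left, biprodBasis_repr_right]
  rfl

theorem mat_lr (i : Fin p') (j : Fin q) :
    mat (biprodBasis bP bQ) (biprodBasis bP' bQ') φ (Fin.castAdd q' i) (Fin.natAdd p j) =
      mat bQ bP' (biprod.inr ≫ φ ≫ biprod.fst) i j := by
  rw [mat_apply, mat_apply, biprodBasis_right, biprodBasis_repr_left]
  rfl

theorem mat_rr (i : Fin q') (j : Fin q) :
    mat (biprodBasis bP bQ) (biprodBasis bP' bQ') φ (Fin.natAdd p' i) (Fin.natAdd p j) =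
      mat bQ bQ' (biprod.inr ≫ φ ≫ biprod.snd) i j := by
  rw [mat_apply, mat_apply, biprodBasis_right, biprodBasis_repr_right]
  rfl

/-- A spanned block gives spanned entries. -/
theorem exists_coeff {E F E' F' : X.Modules} {e f e' f' m : ℕ} (bE : Module.Basis (Fin e) Γ(X, U) Γ(E, U))
    (bF : Module.Basis (Fin f) Γ(X, U) Γ(F, U)) (bE' : Module.Basis (Fin e') Γ(X, U) Γ(E', U))
    (bF' : Module.Basis (Fin f') Γ(X, U) Γ(F', U)) (emb : (E' ⟶ F') → (E ⟶ F)) (σ : Fin f' → Fin f) (τ : Fin e' → Fin e)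
    (hin : ∀ ψ i j, mat bE bF (emb ψ) (σ i) (τ j) = mat bE' bF' ψ i j)
    (hout : ∀ ψ i j, (∀ i' j', (σ i', τ j') ≠ (i, j)) → mat bE bF (emb ψ) i j = 0)
    (hσ : Function.Injective σ) (hτ : Function.Injective τ) (bb : Fin m → (E ⟶ F))
    (hb : ∀ φ : E ⟶ F, ∃ c : Fin m → k, φ = ∑ v, c v • bb v) (b' : Fin m → (E' ⟶ F'))
    (hb' : Spans Set.univ (fun v => mat bE' bF' (b' v))) (i : Fin f') (j : Fin e') :
    ∃ β : Fin m → Γ(X, U), ∀ i₀ j₀,
      (∑ v, β v * mat bE bF (bb v) i₀ j₀) = if (i₀, j₀) = (σ i, τ j) then 1 else 0 := by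
  classical
  letI := BertiniJetLib.algOn (X ↘ Spec (CommRingCat.of k)) U
  obtain ⟨β, hβ⟩ := hb'.1 (i, j) trivial
  choose c hc using fun w => hb (emb (b' w))
  refine ⟨fun v => ∑ w, β w * algebraMap k Γ(X, U) (c w v), fun i₀ j₀ => ?_⟩
  have h1 : ∀ w, mat bE bF (emb (b' w)) i₀ j₀ = ∑ v, algebraMap k Γ(X, U) (c w v) * mat bE bF (bb v) i₀ j₀ := fun w => by
    conv_lhs => rw [hc w, mat_sum bE bF bb (c w)]
    rfl
  calc ∑ v, (∑ w, β w * algebraMap k Γ(X, U) (c w v)) * mat bE bF (bb v) i₀ j₀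
      = ∑ w, β w * mat bE bF (emb (b' w)) i₀ j₀ := by
        simp only [h1, Finset.sum_mul, Finset.mul_sum, mul_assoc]
        exact Finset.sum_comm
    _ = if (i₀, j₀) = (σ i, τ j) then 1 else 0 := by
      by_cases h : ∃ i' j', (σ i', τ j') = (i₀, j₀)
      · obtain ⟨i', j', h⟩ := h
        obtain ⟨rfl, rfl⟩ := Prod.mk.inj h
        simp only [hin]
        rw [hβ]
        simp [Prod.ext_iff, hσ.eq_iff, hτ.eq_iff]
      · push_neg at h
        rw [if_neg (fun h' => h i j h'.symm)]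
        exact Finset.sum_eq_zero fun w _ => by rw [hout _ _ _ h, mul_zero]

/-- The possibly nonzero positions of a block triangular matrix. -/
def blockPos (p q p' q' : ℕ) : Set (Fin (p' + q') × Fin (p + q)) := {t | p' ≤ t.1.1 ∨ t.2.1 < p}

theorem spans_block [Coh.IsQCoh P] [Coh.IsQCoh Q] [Coh.IsQCoh P'] [Coh.IsQCoh Q'] [DCoh.HasSheafHom P]
    [DCoh.HasSheafHom Q] (hU : IsAffineOpen U) (hP : FlatMod.IsFinLocFree P) (hQ : FlatMod.IsFinLocFree Q)
    (h₁₁ : Curv2.IsGloballyGenerated ((DCoh.sheafHom P).obj P'))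
    (h₁₂ : Curv2.IsGloballyGenerated ((DCoh.sheafHom P).obj Q'))
    (h₂₂ : Curv2.IsGloballyGenerated ((DCoh.sheafHom Q).obj Q')) (h₂₁ : ∀ ψ : Q ⟶ P', ψ = 0)
    {m : ℕ} (bb : Fin m → (P ⊞ Q ⟶ P' ⊞ Q')) (hb : ∀ φ : P ⊞ Q ⟶ P' ⊞ Q', ∃ c : Fin m → k, φ = ∑ v, c v • bb v) :
    Spans (blockPos p q p' q') (fun v => mat (biprodBasis bP bQ) (biprodBasis bP' bQ') (bb v)) := by
  classical
  have hcomp : ∀ {E' F' : X.Modules} (i₁ : E' ⟶ P ⊞ Q) (i₂ : P' ⊞ Q' ⟶ F') (s₁ : P ⊞ Q ⟶ E') (s₂ : F' ⟶ P' ⊞ Q'),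
      i₁ ≫ s₁ = 𝟙 E' → s₂ ≫ i₂ = 𝟙 F' →
      ∀ ψ : E' ⟶ F', ∃ c : Fin m → k, ψ = ∑ v, c v • (i₁ ≫ bb v ≫ i₂) := by
    intro E' F' i₁ i₂ s₁ s₂ h1 h2 ψ
    obtain ⟨c, hc⟩ := hb (s₁ ≫ ψ ≫ s₂)
    refine ⟨c, ?_⟩
    have := congrArg (fun t => i₁ ≫ t ≫ i₂) hc
    simp only [Category.assoc, reassoc_of% h1, h2, Category.comp_id, Preadditive.comp_sum,
      Preadditive.sum_comp, CategoryTheory.Linear.smul_comp, CategoryTheory.Linear.comp_smul] at this
    exact this
  refine ⟨fun ⟨i, j⟩ hij => ?_, fun v i j hij => ?_⟩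
  · obtain ⟨i | i, rfl⟩ := (finSumFinEquiv (m := p') (n := q')).surjective i <;>
      obtain ⟨j | j, rfl⟩ := (finSumFinEquiv (m := p) (n := q)).surjective j <;>
      simp only [finSumFinEquiv_apply_left, finSumFinEquiv_apply_right] at hij ⊢
    · refine exists_coeff (biprodBasis bP bQ) (biprodBasis bP' bQ') bP bP'
        (fun ψ => biprod.fst ≫ ψ ≫ biprod.inl) (Fin.castAdd q') (Fin.castAdd q) (fun ψ a b => ?_) (fun ψ a b h => ?_)
        (Fin.castAdd_injective _ _) (Fin.castAdd_injective _ _) bb hb _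
        (spans_mat bP bP' hU (span_stalk_maps hP h₁₁) _ (hcomp biprod.inl biprod.fst biprod.fst biprod.inl biprod.inl_fst biprod.inl_fst)) i j
      · rw [mat_ll]; simp
      · obtain ⟨a | a, rfl⟩ := (finSumFinEquiv (m := p') (n := q')).surjective a <;>
          obtain ⟨b | b, rfl⟩ := (finSumFinEquiv (m := p) (n := q)).surjective b <;>
          simp only [finSumFinEquiv_apply_left, finSumFinEquiv_apply_right] at h ⊢
        · exact absurd rfl (h a b)
        · rw [mat_lr]; simp [mat_zero]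
        · rw [mat_rl]; simp [mat_zero]
        · rw [mat_rr]; simp [mat_zero]
    · exfalso
      rcases hij with h | h
      · simp only [Fin.val_castAdd] at h; omega
      · simp only [Fin.val_natAdd] at h; omega
    · refine exists_coeff (biprodBasis bP bQ) (biprodBasis bP' bQ') bP bQ'
        (fun ψ => biprod.fst ≫ ψ ≫ biprod.inr) (Fin.natAdd p') (Fin.castAdd q) (fun ψ a b => ?_) (fun ψ a b h => ?_)
        (Fin.natAdd_injective _ _) (Fin.castAdd_injective _ _) bb hb _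
        (spans_mat bP bQ' hU (span_stalk_maps hP h₁₂) _ (hcomp biprod.inl biprod.snd biprod.fst biprod.inr biprod.inl_fst biprod.inr_snd)) i j
      · rw [mat_rl]; simp
      · obtain ⟨a | a, rfl⟩ := (finSumFinEquiv (m := p') (n := q')).surjective a <;>
          obtain ⟨b | b, rfl⟩ := (finSumFinEquiv (m := p) (n := q)).surjective b <;>
          simp only [finSumFinEquiv_apply_left, finSumFinEquiv_apply_right] at h ⊢
        · rw [mat_ll]; simp [mat_zero]
        · rw [mat_lr]; simp [mat_zero]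
        · exact absurd rfl (h a b)
        · rw [mat_rr]; simp [mat_zero]
    · refine exists_coeff (biprodBasis bP bQ) (biprodBasis bP' bQ') bQ bQ'
        (fun ψ => biprod.snd ≫ ψ ≫ biprod.inr) (Fin.natAdd p') (Fin.natAdd p) (fun ψ a b => ?_) (fun ψ a b h => ?_)
        (Fin.natAdd_injective _ _) (Fin.natAdd_injective _ _) bb hb _
        (spans_mat bQ bQ' hU (span_stalk_maps hQ h₂₂) _ (hcomp biprod.inr biprod.snd biprod.snd biprod.inr biprod.inr_snd biprod.inr_snd)) i j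
      · rw [mat_rr]; simp
      · obtain ⟨a | a, rfl⟩ := (finSumFinEquiv (m := p') (n := q')).surjective a <;>
          obtain ⟨b | b, rfl⟩ := (finSumFinEquiv (m := p) (n := q)).surjective b <;>
          simp only [finSumFinEquiv_apply_left, finSumFinEquiv_apply_right] at h ⊢
        · rw [mat_ll]; simp [mat_zero]
        · rw [mat_lr]; simp [mat_zero]
        · rw [mat_rl]; simp [mat_zero]
        · exact absurd rfl (h a b)
  · obtain ⟨i | i, rfl⟩ := (finSumFinEquiv (m := p') (n := q')).surjective i <;>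
      obtain ⟨j | j, rfl⟩ := (finSumFinEquiv (m := p) (n := q)).surjective j <;>
      simp only [finSumFinEquiv_apply_left, finSumFinEquiv_apply_right] at hij ⊢
    · exact absurd (Or.inr (show (Fin.castAdd q j).1 < p from j.isLt)) hij
    · rw [mat_lr, h₂₁ (biprod.inr ≫ bb v ≫ biprod.fst), mat_zero]; rfl
    · exact absurd (Or.inl (show p' ≤ (Fin.natAdd p' i).1 from Nat.le_add_right _ _)) hij
    · exact absurd (Or.inl (show p' ≤ (Fin.natAdd p' i).1 from Nat.le_add_right _ _)) hij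

variable (k) in
theorem finite_hom_biprod [IsProper (X ↘ Spec (CommRingCat.of k))] {P Q P' Q' : X.Modules}
    (hP : FlatMod.IsFinLocFree P) (hQ : FlatMod.IsFinLocFree Q) (hP' : FlatMod.IsFinLocFree P')
    (hQ' : FlatMod.IsFinLocFree Q') : Module.Finite k (P ⊞ Q ⟶ P' ⊞ Q') := by
  haveI := finite_hom k hP hP'
  haveI := finite_hom k hP hQ'
  haveI := finite_hom k hQ hP'
  haveI := finite_hom k hQ hQ'
  let L : (P ⊞ Q ⟶ P' ⊞ Q') →ₗ[k] ((P ⟶ P') × (P ⟶ Q')) × ((Q ⟶ P') × (Q ⟶ Q')) :=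
    { toFun := fun φ => ((biprod.inl ≫ φ ≫ biprod.fst, biprod.inl ≫ φ ≫ biprod.snd),
        (biprod.inr ≫ φ ≫ biprod.fst, biprod.inr ≫ φ ≫ biprod.snd))
      map_add' := fun φ ψ => by simp
      map_smul' := fun c φ => by simp }
  refine Module.Finite.of_injective L fun φ ψ h => ?_
  simp only [L, LinearMap.coe_mk, AddHom.coe_mk, Prod.mk.injEq] at h
  obtain ⟨⟨h1, h2⟩, h3, h4⟩ := h
  refine biprod.hom_ext' _ _ (biprod.hom_ext _ _ ?_ ?_) (biprod.hom_ext _ _ ?_ ?_)
  · simpa using h1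
  · simpa using h2
  · simpa using h3
  · simpa using h4

end DegenGenLib

end
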