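import Groth.Agent.DegenGenLib.Block
import Groth.Agent.DevissLib.ClosedImm
import Groth.Agent.FibDimLib.Formula

/-!
# Bounding the dimension of a degeneracy locus
-/

set_option autoImplicit false
set_option linter.style.haveILetI false
set_option backward.isDefEq.respectTransparency false
set_option backward.isDefEq.respectTransparency.types false

noncomputable section

universe u

open CategoryTheory CategoryTheory.Limits AlgebraicGeometry TopologicalSpace Opposite

namespace DegenGenLib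

/-- A prime in a chart has small dimension. -/
theorem dim_prime_le (k : Type u) [Field k] {A : Type u} [CommRing A] [Algebra k A] [Algebra.FiniteType k A]
    {f e r : ℕ} (N : Matrix (Fin f) (Fin e) A) (R : Fin r → Fin f) (C : Fin r → Fin e) (n : ℕ)
    (hh : ∀ Q : Ideal (Chart N R C), Q.IsMaximal → Q.height + (((f - r) * (e - r) : ℕ) : ℕ∞) = (n : ℕ∞))
    (P : Ideal A) [P.IsPrime] (hJ : J N (r + 1) ≤ P) (hδ : (N.submatrix R C).det ∉ P) :
    ringKrullDim (A ⧸ P) + (((f - r) * (e - r) : ℕ) : WithBot ℕ∞) ≤ (n : WithBot ℕ∞) := by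
  classical
  let A' := A ⧸ P
  let mk : A →+* A' := Ideal.Quotient.mk P
  haveI : IsJacobsonRing A' := isJacobsonRing_of_finiteType (A := k)
  have hδ' : mk (N.submatrix R C).det ≠ 0 := fun h => hδ (Ideal.Quotient.eq_zero_iff_mem.1 h)
  obtain ⟨q, hq, hδq⟩ : ∃ q : Ideal A', q.IsMaximal ∧ mk (N.submatrix R C).det ∉ q := by
    by_contra hne
    push_neg at hne
    refine hδ' ?_
    have : mk (N.submatrix R C).det ∈ (⊥ : Ideal A').jacobson := by
      rw [Ideal.jacobson, Ideal.mem_sInf]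
      rintro q ⟨-, hq⟩
      exact hne q hq
    rwa [IsJacobsonRing.out ‹IsJacobsonRing A'› Ideal.isPrime_bot.isRadical] at this
  haveI := hq
  let B := Localization.Away (mk (N.submatrix R C).det)
  have hdis : Disjoint (Submonoid.powers (mk (N.submatrix R C).det) : Set A') q := by
    refine Set.disjoint_left.2 ?_
    rintro _ ⟨l, rfl⟩ hl
    exact hδq (hq.isPrime.mem_of_pow_mem l hl)
  let qB := q.map (algebraMap A' B)
  have hqB : qB.comap (algebraMap A' B) = q :=
    IsLocalization.under_map_of_isPrime_disjoint (Submonoid.powers (mk (N.submatrix R C).det)) B hq.isPrime hdis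
  haveI : qB.IsPrime := IsLocalization.isPrime_of_isPrime_disjoint _ B q hq.isPrime hdis
  haveI : qB.IsMaximal := by
    refine Ideal.isMaximal_iff.2 ⟨fun h => ‹qB.IsPrime›.ne_top ((Ideal.eq_top_iff_one _).2 h), fun I x hle hx hxI => ?_⟩
    obtain ⟨l, y, hy⟩ := IsLocalization.Away.surj (mk (N.submatrix R C).det) x
    have hu := (IsLocalization.Away.algebraMap_isUnit (S := B) (mk (N.submatrix R C).det)).pow l
    have hyq : y ∉ q := fun h => hx (by
      have h' : algebraMap A' B y ∈ qB := Ideal.mem_map_of_mem _ h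
      rw [← hy] at h'
      exact (Ideal.mul_unit_mem_iff_mem _ hu).1 h')
    have hlt : q < I.comap (algebraMap A' B) := by
      refine lt_of_le_of_ne ?_ fun h => hyq ?_
      · rw [← hqB]
        exact Ideal.comap_mono hle
      · rw [h, Ideal.mem_comap, ← hy]
        exact I.mul_mem_right _ hxI
    have h1 : (1 : A') ∈ I.comap (algebraMap A' B) := by
      rw [hq.out.2 _ hlt]
      exact Submodule.mem_top
    rw [Ideal.mem_comap, map_one] at h1
    exact h1
  let g : A →+* B := (algebraMap A' B).comp mk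
  have hgJ : J (N.map g) (r + 1) = ⊥ := by
    rw [← J_map, ← Ideal.map_map, show (J N (r + 1)).map mk = ⊥ from
      le_bot_iff.1 ((Ideal.map_mono hJ).trans (Ideal.map_quotient_self P).le), Ideal.map_bot]
  obtain ⟨G, hG⟩ := chart_lift_exists (R := R) (C := C) g hgJ (IsLocalization.Away.algebraMap_isUnit (S := B) (mk (N.submatrix R C).det))
  have hGsurj : Function.Surjective G := by
    intro y
    obtain ⟨l, z, hz⟩ := IsLocalization.Away.surj (mk (N.submatrix R C).det) y
    obtain ⟨z, rfl⟩ := Ideal.Quotient.mk_surjective z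
    obtain ⟨w, hw⟩ := (chart_isUnit N R C).pow l
    refine ⟨algebraMap A (Chart N R C) z * (w⁻¹ : (Chart N R C)ˣ), ?_⟩
    refine ((IsLocalization.Away.algebraMap_isUnit (S := B) (mk (N.submatrix R C).det)).pow l).mul_left_inj.1 ?_
    rw [hz, show algebraMap A' B (mk (N.submatrix R C).det) = G (algebraMap A (Chart N R C) (N.submatrix R C).det) from
      (RingHom.congr_fun hG _).symm, ← map_pow G, ← hw, ← map_mul, mul_assoc, Units.inv_mul, mul_one,
      ← RingHom.comp_apply G, hG]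
    rfl
  haveI : (qB.comap G).IsMaximal := Ideal.comap_isMaximal_of_surjective G hGsurj
  have h1 := hh (qB.comap G) inferInstance
  have h2 : qB.height ≤ (qB.comap G).height := by
    have h := Order.height_le_height_apply_of_strictMono (PrimeSpectrum.comap G)
      (RingHom.strictMono_comap_of_surjective hGsurj) (⟨qB, inferInstance⟩ : PrimeSpectrum B)
    rw [← PrimeSpectrum.height_eq_orderHeight, ← PrimeSpectrum.height_eq_orderHeight] at h
    exact h
  have h3 : q.height = qB.height := by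
    rw [← IsLocalization.height_under (Submonoid.powers (mk (N.submatrix R C).det)) qB]
    exact congrArg Ideal.height hqB.symm
  have h4 : q.height + (((f - r) * (e - r) : ℕ) : ℕ∞) ≤ (n : ℕ∞) :=
    h1 ▸ add_le_add (h3 ▸ h2) le_rfl
  rw [← MaxHeight.affine_domain k A' q]
  exact WithBot.coe_le_coe.2 h4

/-- Where the maximal minors of a block triangular matrix vanish, a chart of smaller rank is available. -/
theorem exists_stratum {A : Type*} [CommRing A] {p q p' q' : ℕ} (hpq : p + q ≤ p' + q')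
    (M : Matrix (Fin (p' + q')) (Fin (p + q)) A) (P : Ideal A) [P.IsPrime] (hJ : J M (p + q) ≤ P) :
    (∃ (r : Fin q) (R : Fin r → Fin q') (C : Fin r → Fin q),
        (((M.submatrix (Fin.natAdd p') (Fin.natAdd p))).submatrix R C).det ∉ P ∧
        J (M.submatrix (Fin.natAdd p') (Fin.natAdd p)) (r + 1) ≤ P) ∨
      (∃ (r : Fin (p + q)) (R : Fin r → Fin (p' + q')) (C : Fin r → Fin (p + q)),
        (∀ j : Fin q, Fin.natAdd p j ∈ Set.range C) ∧ (M.submatrix R C).det ∉ P ∧ J M (r + 1) ≤ P) := by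
  classical
  let S := M.submatrix (Fin.natAdd p') (Fin.natAdd p)
  have h0 : ∀ {f e : ℕ} (N : Matrix (Fin f) (Fin e) A), ¬ J N 0 ≤ P := fun N h => by
    have := h (det_mem_J N Fin.elim0 Fin.elim0)
    rw [Matrix.det_fin_zero] at this
    exact ‹P.IsPrime›.one_notMem this
  by_cases hS : J S q ≤ P
  · left
    let hex : ∃ r, J S r ≤ P := ⟨q, hS⟩
    have hpos : Nat.find hex ≠ 0 := fun h => h0 S (h ▸ Nat.find_spec hex)
    obtain ⟨r, hr⟩ := Nat.exists_eq_succ_of_ne_zero hpos
    have hle : Nat.find hex ≤ q := Nat.find_min' hex hS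
    have hrP : ¬ J S r ≤ P := Nat.find_min hex (by omega)
    obtain ⟨_, ⟨⟨R, C⟩, rfl⟩, hRC⟩ := Set.not_subset.1 (fun h => hrP (Ideal.span_le.2 h))
    refine ⟨⟨r, by omega⟩, R, C, hRC, ?_⟩
    have := Nat.find_spec hex
    rwa [hr] at this
  · right
    obtain ⟨_, ⟨⟨R₀, C₀⟩, rfl⟩, hRC⟩ := Set.not_subset.1 (fun h => hS (Ideal.span_le.2 h))
    have hC₀ : Function.Surjective C₀ := by
      refine Finite.injective_iff_surjective.1 fun x y hxy => ?_
      by_contra hne
      exact hRC (by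
        show (S.submatrix R₀ C₀).det ∈ P
        rw [Matrix.det_zero_of_column_eq hne fun i => by simp [hxy]]
        exact P.zero_mem)
    let Good : ℕ → Prop := fun r => ∃ (R : Fin r → Fin (p' + q')) (C : Fin r → Fin (p + q)),
      (∀ j : Fin q, Fin.natAdd p j ∈ Set.range C) ∧ (M.submatrix R C).det ∉ P
    have hq0 : Good q := ⟨Fin.natAdd p' ∘ R₀, Fin.natAdd p ∘ C₀, fun j => by
      obtain ⟨x, rfl⟩ := hC₀ j
      exact ⟨x, rfl⟩, hRC⟩
    have hlt : ∀ r, Good r → r < p + q := by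
      rintro r ⟨R, C, -, h⟩
      have hC : Function.Injective C := fun x y hxy => by
        by_contra hne
        exact h (by rw [Matrix.det_zero_of_column_eq hne fun i => by simp [hxy]]; exact P.zero_mem)
      have hle := Fintype.card_le_of_injective C hC
      simp only [Fintype.card_fin] at hle
      rcases hle.lt_or_eq with hl | rfl
      · exact hl
      · exact absurd (hJ (det_mem_J M R C)) h
    let r := Nat.findGreatest Good (p + q)
    have hr : Good r := Nat.findGreatest_spec (hlt q hq0).le hq0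
    obtain ⟨R, C, hC, hRC'⟩ := hr
    refine ⟨⟨r, hlt r ⟨R, C, hC, hRC'⟩⟩, R, C, hC, hRC', ?_⟩
    have hb : ∀ i j, bord M R C i j ∈ P := by
      intro i j
      by_contra hne
      let σ : Fin (r + 1) ≃ Fin r ⊕ Unit :=
        finSumFinEquiv.symm.trans (Equiv.sumCongr (Equiv.refl _) (Equiv.ofUnique _ _))
      have hg : Good (r + 1) := ⟨Sum.elim R (fun _ => i) ∘ σ, Sum.elim C (fun _ => j) ∘ σ, fun x => by
        obtain ⟨y, hy⟩ := hC x
        exact ⟨σ.symm (Sum.inl y), by simp [hy]⟩, by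
        rw [← Matrix.submatrix_submatrix, Matrix.det_submatrix_equiv_self]
        exact hne⟩
      exact absurd (Nat.le_findGreatest (hlt _ hg).le hg) (Nat.not_succ_le_self r)
    let K := Localization.Away (Ideal.Quotient.mk P (M.submatrix R C).det)
    let g : A →+* K := (algebraMap (A ⧸ P) K).comp (Ideal.Quotient.mk P)
    have hgJ : J (M.map g) (r + 1) = ⊥ :=
      J_eq_bot_of_bord (R := R) (C := C) (map_det g M R C ▸ IsLocalization.Away.algebraMap_isUnit (S := K) (Ideal.Quotient.mk P (M.submatrix R C).det)) fun i _ j _ => by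
        rw [← map_bord]
        show algebraMap (A ⧸ P) K (Ideal.Quotient.mk P (bord M R C i j)) = 0
        rw [Ideal.Quotient.eq_zero_iff_mem.2 (hb i j), map_zero]
    intro x hx
    have := J_map_le_bot g M (r + 1) hx hgJ
    have hinj : Function.Injective (algebraMap (A ⧸ P) K) :=
      IsLocalization.injective (M := Submonoid.powers (Ideal.Quotient.mk P (M.submatrix R C).det)) K
        (powers_le_nonZeroDivisors_of_noZeroDivisors fun h => hRC' (Ideal.Quotient.eq_zero_iff_mem.1 h))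
    exact Ideal.Quotient.eq_zero_iff_mem.1 (hinj (this.trans (map_zero _).symm))

variable (k : Type u) [Field k] {X : Scheme.{u}} [X.Over (Spec (CommRingCat.of k))]

/-- The closure of a point, computed on an affine open. -/
theorem dim_closure [LocallyOfFiniteType (X ↘ Spec (CommRingCat.of k))] {U : X.Opens} (hU : IsAffineOpen U) {η : X}
    (hη : η ∈ U) : topologicalKrullDim (closure ({η} : Set X)) = ringKrullDim (Γ(X, U) ⧸ (hU.primeIdealOf ⟨η, hη⟩).asIdeal) := by
  let 𝔭 := hU.primeIdealOf ⟨η, hη⟩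
  obtain ⟨Z₀, i, hi, hZ₀, hr⟩ := DevissLib.exists_integral_closed isClosed_closure
    (isIrreducible_singleton (x := η)).closure
  haveI := hi
  haveI := hZ₀
  let q : X ⟶ Spec (CommRingCat.of k) := X ↘ Spec (CommRingCat.of k)
  let V : Z₀.Opens := i ⁻¹ᵁ U
  obtain ⟨z, hz⟩ : η ∈ Set.range i.base := hr.symm ▸ subset_closure rfl
  have hzV : z ∈ V := show i z ∈ U from hz.symm ▸ hη
  haveI : Nonempty V := ⟨⟨z, hzV⟩⟩
  haveI : IrreducibleSpace (V : Scheme.{u}) := inferInstance
  have h1 : topologicalKrullDim Z₀ = topologicalKrullDim (V : Scheme.{u}) := by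
    have h := FibDimLib.localDim_eq_of_isOpenEmbedding V.ι.isOpenEmbedding ⟨z, hzV⟩
    rw [FibDimLib.localDim_of_irreducible (i ≫ q), FibDimLib.localDim_of_irreducible (V.ι ≫ i ≫ q)] at h
    exact h
  have h2 : topologicalKrullDim Z₀ = topologicalKrullDim (closure ({η} : Set X)) :=
    IsHomeomorph.topologicalKrullDim_eq _ (i.isEmbedding.toHomeomorph.trans (Homeomorph.setCongr hr)).isHomeomorph
  have hcl : closure ({𝔭} : Set (PrimeSpectrum Γ(X, U))) = hU.fromSpec.base ⁻¹' closure {η} := by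
    have h := hU.fromSpec.isOpenEmbedding.isInducing.closure_eq_preimage_closure_image {𝔭}
    rwa [Set.image_singleton, hU.fromSpec_primeIdealOf ⟨η, hη⟩] at h
  have e1 : Set.range (V.ι ≫ i).base = (closure {η} : Set X) ∩ U := by
    ext x
    constructor
    · rintro ⟨w, rfl⟩
      exact ⟨hr ▸ ⟨V.ι w, rfl⟩, w.2⟩
    · rintro ⟨hx, hxU⟩
      obtain ⟨w, rfl⟩ := hr.symm ▸ hx
      exact ⟨⟨w, hxU⟩, rfl⟩
  let S := closure ({𝔭} : Set (PrimeSpectrum Γ(X, U)))
  let j : S → X := fun t => hU.fromSpec t.1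
  have hj : Topology.IsEmbedding j := hU.fromSpec.isOpenEmbedding.isEmbedding.comp Topology.IsEmbedding.subtypeVal
  have e2 : Set.range j = (closure {η} : Set X) ∩ U := by
    ext x
    constructor
    · rintro ⟨⟨t, ht⟩, rfl⟩
      exact ⟨hcl.le ht, hU.range_fromSpec.subset ⟨t, rfl⟩⟩
    · rintro ⟨hx, hxU⟩
      obtain ⟨t, rfl⟩ := hU.range_fromSpec.symm.subset hxU
      exact ⟨⟨t, hcl.ge hx⟩, rfl⟩
  let φ : (V : Scheme.{u}) ≃ₜ S := ((V.ι ≫ i).isEmbedding.toHomeomorph.trans (Homeomorph.setCongr (e1.trans e2.symm))).trans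
    hj.toHomeomorph.symm
  rw [← h2, h1, IsHomeomorph.topologicalKrullDim_eq _ φ.isHomeomorph]
  exact FibDimLib.topologicalKrullDim_closure_prime 𝔭

set_option maxHeartbeats 1000000 in
theorem block_main [IsAlgClosed k] [CharZero k] [IsIntegral X] [Smooth (X ↘ Spec (CommRingCat.of k))]
    [IsProper (X ↘ Spec (CommRingCat.of k))] (n : ℕ) (hdim : topologicalKrullDim X = n)
    {P Q P' Q' : X.Modules} {p q p' q' : ℕ}
    (hP : FlatMod.IsFinLocFreeOfRank p P) (hQ : FlatMod.IsFinLocFreeOfRank q Q)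
    (hP' : FlatMod.IsFinLocFreeOfRank p' P') (hQ' : FlatMod.IsFinLocFreeOfRank q' Q') (hpq : p + q ≤ p' + q')
    [DCoh.HasSheafHom P] [DCoh.HasSheafHom Q]
    (h₁₁ : Curv2.IsGloballyGenerated ((DCoh.sheafHom P).obj P'))
    (h₁₂ : Curv2.IsGloballyGenerated ((DCoh.sheafHom P).obj Q'))
    (h₂₂ : Curv2.IsGloballyGenerated ((DCoh.sheafHom Q).obj Q')) (h₂₁ : ∀ ψ : Q ⟶ P', ψ = 0) (hq : q ≤ q') :
    ∃ (m : ℕ) (c : ((P ⊞ Q) ⟶ (P' ⊞ Q')) ≃ₗ[k] (Fin m → k)) (pp : MvPolynomial (Fin m) k), pp ≠ 0 ∧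
      ∀ φ : (P ⊞ Q) ⟶ (P' ⊞ Q'), MvPolynomial.eval (c φ) pp ≠ 0 →
        letI Z : Set X := ((Fitt.sheafIdeal (cokernel φ) (p' + q' - (p + q))).support : TopologicalSpace.Closeds X)
        Z = ∅ ∨ (min (q' - q) (p' + q' - (p + q)) + 1 ≤ n ∧
          ∀ T ∈ irreducibleComponents Z,
            topologicalKrullDim T ≤ ((n - (min (q' - q) (p' + q' - (p + q)) + 1) : ℕ) : WithBot ℕ∞)) := by
  classical
  have hP₀ := SeesawLib.isFinLocFree_of_rank hP
  have hQ₀ := SeesawLib.isFinLocFree_of_rank hQ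
  have hP'₀ := SeesawLib.isFinLocFree_of_rank hP'
  have hQ'₀ := SeesawLib.isFinLocFree_of_rank hQ'
  haveI := (LocSuppLib.isCoh_of_isFinLocFree hP₀).1
  haveI := (LocSuppLib.isCoh_of_isFinLocFree hQ₀).1
  haveI := (LocSuppLib.isCoh_of_isFinLocFree hP'₀).1
  haveI := (LocSuppLib.isCoh_of_isFinLocFree hQ'₀).1
  haveI := QCohLib.isQCoh_biprod P Q
  haveI := QCohLib.isQCoh_biprod P' Q'
  haveI := finite_hom_biprod k hP₀ hQ₀ hP'₀ hQ'₀
  let str : X ⟶ Spec (CommRingCat.of k) := X ↘ Spec (CommRingCat.of k)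
  haveI : CompactSpace X := QuasiCompact.compactSpace_of_compactSpace str
  let b := Module.finBasis k (P ⊞ Q ⟶ P' ⊞ Q')
  let c := b.equivFun
  let m := Module.finrank k (P ⊞ Q ⟶ P' ⊞ Q')
  have hb : ∀ φ, ∃ d : Fin m → k, φ = ∑ v, d v • b v := fun φ => ⟨c φ, (b.sum_equivFun φ).symm⟩
  let d := min (q' - q) (p' + q' - (p + q)) + 1
  -- trivialising charts
  have hcov : ∀ x : X, ∃ (U : X.affineOpens), x ∈ U.1 ∧ Nonempty (Module.Basis (Fin p) Γ(X, U.1) Γ(P, U.1)) ∧
      Nonempty (Module.Basis (Fin q) Γ(X, U.1) Γ(Q, U.1)) ∧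
      Nonempty (Module.Basis (Fin p') Γ(X, U.1) Γ(P', U.1)) ∧
      Nonempty (Module.Basis (Fin q') Γ(X, U.1) Γ(Q', U.1)) := by
    intro x
    obtain ⟨O₁, h1, f1⟩ := KZeroSecLib.exists_basis_nhd hP x
    obtain ⟨O₂, h2, f2⟩ := KZeroSecLib.exists_basis_nhd hQ x
    obtain ⟨O₃, h3, f3⟩ := KZeroSecLib.exists_basis_nhd hP' x
    obtain ⟨O₄, h4, f4⟩ := KZeroSecLib.exists_basis_nhd hQ' x
    obtain ⟨U, hU, hxU, hle⟩ := exists_isAffineOpen_mem_and_subset (U := (O₁ ⊓ O₂) ⊓ (O₃ ⊓ O₄)) (x := x) ⟨⟨h1, h2⟩, h3, h4⟩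
    exact ⟨⟨U, hU⟩, hxU, f1 ⟨U, hU⟩ fun y hy => (hle hy).1.1, f2 ⟨U, hU⟩ fun y hy => (hle hy).1.2,
      f3 ⟨U, hU⟩ fun y hy => (hle hy).2.1, f4 ⟨U, hU⟩ fun y hy => (hle hy).2.2⟩
  choose U hxU hbP hbQ hbP' hbQ' using hcov
  let bP := fun x => (hbP x).some
  let bQ := fun x => (hbQ x).some
  let bP' := fun x => (hbP' x).some
  let bQ' := fun x => (hbQ' x).some
  let bE := fun x => biprodBasis (bP x) (bQ x)
  let bF := fun x => biprodBasis (bP' x) (bQ' x)
  obtain ⟨t, ht⟩ := isCompact_univ.elim_finite_subcover (fun x : X => ((U x).1 : Set X)) (fun x => (U x).1.2)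
    (fun x _ => Set.mem_iUnion_of_mem x (hxU x))
  let cS : Fin m → (Q ⟶ Q') := fun v => biprod.inr ≫ b v ≫ biprod.snd
  have hcS : ∀ ψ : Q ⟶ Q', ∃ d : Fin m → k, ψ = ∑ v, d v • cS v := by
    intro ψ
    obtain ⟨d, hd⟩ := hb (biprod.snd ≫ ψ ≫ biprod.inr)
    refine ⟨d, ?_⟩
    have := congrArg (fun t => biprod.inr ≫ t ≫ biprod.snd) hd
    simp only [Category.assoc, biprod.inr_snd, biprod.inr_snd_assoc, Category.comp_id, Preadditive.comp_sum,
      Preadditive.sum_comp, CategoryTheory.Linear.smul_comp, CategoryTheory.Linear.comp_smul] at this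
    exact this
  -- charts of the rank drop of the diagonal block
  have key1 : ∀ (x : X) (r : Fin q) (R : Fin r → Fin q') (C : Fin r → Fin q),
      letI := BertiniJetLib.algOn (X ↘ Spec (CommRingCat.of k)) (U x).1
      ∃ pp : MvPolynomial (Fin m) k, pp ≠ 0 ∧ ∀ d : Fin m → k, MvPolynomial.eval d pp ≠ 0 →
        ∀ I : Ideal (Chart (comb (fun v => mat (bQ x) (bQ' x) (cS v)) d) R C), I.IsMaximal →
          I.height + (((q' - r) * (q - r) : ℕ) : ℕ∞) = (n : ℕ∞) := by
    intro x r R C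
    letI := BertiniJetLib.algOn (X ↘ Spec (CommRingCat.of k)) (U x).1
    haveI := BertiniJetLib.smooth_algOn str (U x)
    haveI : Nonempty (U x).1 := ⟨⟨x, hxU x⟩⟩
    obtain ⟨pp, h0, h⟩ := exists_good (k := k) n (dim_affine k n hdim (U x).2 (hxU x)) _ R C Set.univ
      (spans_mat (bQ x) (bQ' x) (U x).2 (span_stalk_maps hQ₀ h₂₂) cS hcS) fun _ _ _ _ => Set.mem_univ _
    exact ⟨pp, h0, fun d hd => (h d hd).2⟩
  -- charts containing the columns of the second summand
  have key2 : ∀ (x : X) (r : Fin (p + q)) (R : Fin r → Fin (p' + q')) (C : Fin r → Fin (p + q)),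
      letI := BertiniJetLib.algOn (X ↘ Spec (CommRingCat.of k)) (U x).1
      ∃ pp : MvPolynomial (Fin m) k, pp ≠ 0 ∧ ((∀ j : Fin q, Fin.natAdd p j ∈ Set.range C) →
        ∀ d : Fin m → k, MvPolynomial.eval d pp ≠ 0 →
          ∀ I : Ideal (Chart (comb (fun v => mat (bE x) (bF x) (b v)) d) R C), I.IsMaximal →
            I.height + (((p' + q' - r) * (p + q - r) : ℕ) : ℕ∞) = (n : ℕ∞)) := by
    intro x r R C
    letI := BertiniJetLib.algOn (X ↘ Spec (CommRingCat.of k)) (U x).1
    haveI := BertiniJetLib.smooth_algOn str (U x)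
    haveI : Nonempty (U x).1 := ⟨⟨x, hxU x⟩⟩
    by_cases hC : ∀ j : Fin q, Fin.natAdd p j ∈ Set.range C
    · obtain ⟨pp, h0, h⟩ := exists_good (k := k) n (dim_affine k n hdim (U x).2 (hxU x)) _ R C (blockPos p q p' q')
        (spans_block (bP x) (bQ x) (bP' x) (bQ' x) (U x).2 hP₀ hQ₀ h₁₁ h₁₂ h₂₂ h₂₁ b hb) fun i _ j hj => by
          refine Or.inr (show j.1 < p from not_le.1 fun hle => hj ?_)
          have : j = Fin.natAdd p ⟨j.1 - p, by omega⟩ := Fin.ext (by simp; omega)
          rw [this]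
          exact hC _
      exact ⟨pp, h0, fun _ d hd => (h d hd).2⟩
    · exact ⟨1, one_ne_zero, fun h => absurd h hC⟩
  choose p₁ hp₁0 hp₁ using key1
  choose p₂ hp₂0 hp₂ using key2
  refine ⟨m, c, (∏ x ∈ t, ∏ r, ∏ R, ∏ C, p₁ x r R C) * ∏ x ∈ t, ∏ r, ∏ R, ∏ C, p₂ x r R C, ?_, fun φ hφ => ?_⟩
  · refine mul_ne_zero ?_ ?_
    · exact Finset.prod_ne_zero_iff.2 fun x _ => Finset.prod_ne_zero_iff.2 fun r _ => Finset.prod_ne_zero_iff.2
        fun R _ => Finset.prod_ne_zero_iff.2 fun C _ => hp₁0 x r R C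
    · exact Finset.prod_ne_zero_iff.2 fun x _ => Finset.prod_ne_zero_iff.2 fun r _ => Finset.prod_ne_zero_iff.2
        fun R _ => Finset.prod_ne_zero_iff.2 fun C _ => hp₂0 x r R C
  simp only [map_mul, map_prod, mul_ne_zero_iff, Finset.prod_ne_zero_iff] at hφ
  let Z : Set X := ((Fitt.sheafIdeal (cokernel φ) (p' + q' - (p + q))).support : TopologicalSpace.Closeds X)
  have hFft : CohB1.IsFT (P' ⊞ Q') := QCohLib.isFT_biprod
    (RefHullLib.isFT_of_isFP ((Groth.Agent.S9805.result X P' inferInstance).2 hP'₀ |>.2))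
    (RefHullLib.isFT_of_isFP ((Groth.Agent.S9805.result X Q' inferInstance).2 hQ'₀ |>.2))
  haveI := QCohLib.isQCoh_cokernel φ
  have hft : CohB1.IsFT (cokernel φ) := QCohLib.isFT_of_epi (cokernel.π φ) hFft
  have hpt : ∀ η ∈ Z, topologicalKrullDim (closure ({η} : Set X)) + (d : WithBot ℕ∞) ≤ (n : WithBot ℕ∞) := by
    intro η hη
    obtain ⟨x, hxt, hx⟩ := Set.mem_iUnion₂.1 (ht (Set.mem_univ η))
    letI := BertiniJetLib.algOn (X ↘ Spec (CommRingCat.of k)) (U x).1
    haveI : Algebra.FiniteType k Γ(X, (U x).1) := by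
      haveI := BertiniJetLib.smooth_algOn str (U x)
      infer_instance
    let M := mat (bE x) (bF x) φ
    have hJ : J M (p + q) ≤ ((U x).2.primeIdealOf ⟨η, hx⟩).asIdeal := by
      have := (FittLib.mem_support_iff _ hft _ (U x).2 hx).1 hη
      rwa [fitt_cokernel (bE x) (bF x) (U x).2 φ, show p' + q' - (p' + q' - (p + q)) = p + q by omega] at this
    rw [dim_closure k (U x).2 hx]
    have hsum := b.sum_equivFun φ
    rcases exists_stratum hpq M _ hJ with ⟨r, R, C, hRC, hr⟩ | ⟨r, R, C, hC, hRC, hr⟩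
    · have hS : M.submatrix (Fin.natAdd p') (Fin.natAdd p) = mat (bQ x) (bQ' x) (biprod.inr ≫ φ ≫ biprod.snd) :=
        Matrix.ext fun i j => mat_rr (bP x) (bQ x) (bP' x) (bQ' x) φ i j
      have hS' : biprod.inr ≫ φ ≫ biprod.snd = ∑ v, c φ v • cS v := by
        conv_lhs => rw [← hsum]
        simp only [cS, Preadditive.comp_sum, Preadditive.sum_comp, CategoryTheory.Linear.smul_comp,
          CategoryTheory.Linear.comp_smul]
        rfl
      rw [hS, hS', mat_sum (bQ x) (bQ' x) cS (c φ)] at hRC hr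
      have h := dim_prime_le k _ R C n (hp₁ x r R C (c φ) (hφ.1 x hxt r (Finset.mem_univ _) R (Finset.mem_univ _) C
        (Finset.mem_univ _))) _ hr hRC
      refine le_trans (add_le_add le_rfl (Nat.mono_cast (α := WithBot ℕ∞) ?_)) h
      calc d ≤ q' - q + 1 := by omega
        _ ≤ q' - r := by omega
        _ ≤ (q' - r) * (q - r) := Nat.le_mul_of_pos_right _ (by omega)
    · have hM : M = comb (fun v => mat (bE x) (bF x) (b v)) (c φ) := by
        show mat (bE x) (bF x) φ = _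
        conv_lhs => rw [← hsum]
        exact mat_sum (bE x) (bF x) b (c φ)
      rw [hM] at hRC hr
      have h := dim_prime_le k _ R C n (hp₂ x r R C hC (c φ) (hφ.2 x hxt r (Finset.mem_univ _) R (Finset.mem_univ _) C
        (Finset.mem_univ _))) _ hr hRC
      refine le_trans (add_le_add le_rfl (Nat.mono_cast (α := WithBot ℕ∞) ?_)) h
      calc d ≤ p' + q' - (p + q) + 1 := by omega
        _ ≤ p' + q' - r := by omega
        _ ≤ (p' + q' - r) * (p + q - r) := Nat.le_mul_of_pos_right _ (by omega)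
  have hnn : ∀ η : X, (0 : WithBot ℕ∞) ≤ topologicalKrullDim (closure ({η} : Set X)) := fun η =>
    (FibDimLib.localDim_nonneg ⟨η, subset_closure rfl⟩).trans (FibDimLib.localDim_le _)
  rcases Set.eq_empty_or_nonempty Z with hZ | ⟨η₀, hη₀⟩
  · exact Or.inl hZ
  refine Or.inr ⟨?_, fun T hT => ?_⟩
  · have := le_trans (add_le_add (hnn η₀) le_rfl) (hpt η₀ hη₀)
    rw [zero_add] at this
    exact Nat.cast_le.1 this
  have hdn : d ≤ n := by
    have := le_trans (add_le_add (hnn η₀) le_rfl) (hpt η₀ hη₀)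
    rw [zero_add] at this
    exact Nat.cast_le.1 this
  have hZc : IsClosed Z := ((Fitt.sheafIdeal (cokernel φ) (p' + q' - (p + q))).support).isClosed
  let T' : Set X := Subtype.val '' T
  have hT'i : IsIrreducible T' := hT.1.image _ continuous_subtype_val.continuousOn
  have hT'c : IsClosed T' := hZc.isClosedMap_subtype_val _ (isClosed_of_mem_irreducibleComponents _ hT)
  obtain ⟨η, hη⟩ := QuasiSober.sober hT'i hT'c
  have hηZ : η ∈ Z := by
    obtain ⟨z, -, hz⟩ := hη.mem
    exact hz ▸ z.2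
  have he : topologicalKrullDim T = topologicalKrullDim (closure ({η} : Set X)) := by
    rw [hη.def]
    exact IsHomeomorph.topologicalKrullDim_eq _
      ((Topology.IsEmbedding.subtypeVal).homeomorphImage T).isHomeomorph
  rw [he]
  have h := hpt η hηZ
  have h' : ((n - d : ℕ) : WithBot ℕ∞) + (d : WithBot ℕ∞) = (n : WithBot ℕ∞) := by
    rw [← Nat.cast_add, Nat.sub_add_cancel hdn]
  rw [← h'] at h
  generalize topologicalKrullDim (closure ({η} : Set X)) = D at h ⊢
  cases D with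
  | bot => exact bot_le
  | coe a =>
    have h2 : (a + (d : ℕ∞) : ℕ∞) ≤ ((n - d : ℕ) : ℕ∞) + (d : ℕ∞) := WithBot.coe_le_coe.1 h
    exact WithBot.coe_le_coe.2 ((ENat.add_le_add_iff_right (ENat.natCast_ne_top d)).1 h2)

end DegenGenLib

end
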