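import Groth.Agent.DegenGenLib.Mat
import Mathlib.RingTheory.Localization.Away.Basic
import Mathlib.RingTheory.FiniteStability
import Mathlib.RingTheory.Jacobson.Ring
import Mathlib.RingTheory.KrullDimension.Basic
import Mathlib.FieldTheory.IsAlgClosed.Basic
import Mathlib.RingTheory.Spectrum.Prime.Topology

/-!
# The chart of a determinantal locus where a given `r`-minor is invertible
-/

set_option autoImplicit false
set_option linter.style.haveILetI false

noncomputable section

open Matrix

namespace DegenGenLib

universe u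

variable {A B : Type*} [CommRing A] [CommRing B] {f e r : ℕ}

/-- The rank `r` chart of a matrix at a minor. -/
abbrev Chart (M : Matrix (Fin f) (Fin e) A) (R : Fin r → Fin f) (C : Fin r → Fin e) :=
  Localization.Away (Ideal.Quotient.mk (J M (r + 1)) (M.submatrix R C).det)

variable (M : Matrix (Fin f) (Fin e) A) (R : Fin r → Fin f) (C : Fin r → Fin e)

theorem chart_algebraMap (a : A) :
    algebraMap A (Chart M R C) a = algebraMap (A ⧸ J M (r + 1)) (Chart M R C) (Ideal.Quotient.mk _ a) :=
  IsScalarTower.algebraMap_apply A (A ⧸ J M (r + 1)) (Chart M R C) a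

theorem chart_J : J (M.map (algebraMap A (Chart M R C))) (r + 1) = ⊥ := by
  rw [← J_map, eq_bot_iff, Ideal.map_le_iff_le_comap]
  intro a ha
  rw [Ideal.mem_comap, chart_algebraMap, Ideal.Quotient.eq_zero_iff_mem.2 ha, map_zero]
  exact zero_mem _

theorem chart_isUnit : IsUnit (algebraMap A (Chart M R C) (M.submatrix R C).det) :=
  chart_algebraMap M R C _ ▸ IsLocalization.Away.algebraMap_isUnit (Ideal.Quotient.mk (J M (r + 1)) _)

theorem chart_isUnit' : IsUnit ((M.map (algebraMap A (Chart M R C))).submatrix R C).det :=
  map_det (algebraMap A (Chart M R C)) M R C ▸ chart_isUnit M R C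

theorem injective_of_isUnit [Nontrivial A] (h : IsUnit (M.submatrix R C).det) :
    Function.Injective R ∧ Function.Injective C := by
  constructor <;> intro a b hab <;> by_contra hne
  · exact h.ne_zero (Matrix.det_zero_of_row_eq hne (funext fun j => by simp [hab]))
  · exact h.ne_zero (Matrix.det_zero_of_column_eq hne fun j => by simp [hab])

variable {M R C}

/-- Universal property of the chart. -/
theorem chart_lift_exists (g : A →+* B) (hJ : J (M.map g) (r + 1) = ⊥) (hu : IsUnit (g (M.submatrix R C).det)) :
    ∃ L : Chart M R C →+* B, L.comp (algebraMap A (Chart M R C)) = g := by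
  let g' : A ⧸ J M (r + 1) →+* B := Ideal.Quotient.lift _ g fun a ha => J_map_le_bot g M (r + 1) ha hJ
  refine ⟨IsLocalization.Away.lift (S := Chart M R C) (g := g') (Ideal.Quotient.mk _ _) hu, RingHom.ext fun a => ?_⟩
  rw [RingHom.comp_apply, chart_algebraMap, IsLocalization.Away.lift_eq]
  rfl

theorem chart_hom_ext {g g' : Chart M R C →+* B}
    (h : g.comp (algebraMap A (Chart M R C)) = g'.comp (algebraMap A (Chart M R C))) : g = g' :=
  IsLocalization.ringHom_ext (Submonoid.powers (Ideal.Quotient.mk (J M (r + 1)) (M.submatrix R C).det))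
    (Ideal.Quotient.ringHom_ext (RingHom.ext fun a => by
      have := RingHom.congr_fun h a
      rw [RingHom.comp_apply, RingHom.comp_apply, chart_algebraMap] at this
      exact this))

theorem chart_exists (z : Chart M R C) :
    ∃ (a : A) (l : ℕ), z * algebraMap A (Chart M R C) (M.submatrix R C).det ^ l = algebraMap A _ a := by
  obtain ⟨l, y, hy⟩ := IsLocalization.Away.surj (Ideal.Quotient.mk (J M (r + 1)) (M.submatrix R C).det) z
  obtain ⟨a, rfl⟩ := Ideal.Quotient.mk_surjective y
  exact ⟨a, l, by rw [chart_algebraMap, chart_algebraMap, hy]⟩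

/-- A maximal ideal of a finite type algebra over an algebraically closed field is a rational point. -/
theorem exists_point {k : Type u} [Field k] [IsAlgClosed k] {S : Type*} [CommRing S] [Algebra k S]
    [Algebra.FiniteType k S] (Q : Ideal S) [Q.IsMaximal] : ∃ χ : S →ₐ[k] k, RingHom.ker χ.toRingHom = Q := by
  letI := Ideal.Quotient.field Q
  haveI : Algebra.FiniteType k (S ⧸ Q) :=
    Algebra.FiniteType.of_surjective (Ideal.Quotient.mkₐ k Q) (Ideal.Quotient.mkₐ_surjective k Q)
  haveI : Module.Finite k (S ⧸ Q) := finite_of_finite_type_of_isJacobsonRing k _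
  have hbij : Function.Bijective (Algebra.ofId k (S ⧸ Q)) :=
    IsAlgClosed.algebraMap_bijective_of_isIntegral
  refine ⟨(AlgEquiv.ofBijective (Algebra.ofId k (S ⧸ Q)) hbij).symm.toAlgHom.comp (Ideal.Quotient.mkₐ k Q), ?_⟩
  ext x
  rw [RingHom.mem_ker]
  exact (EmbeddingLike.map_eq_zero_iff (f := (AlgEquiv.ofBijective (Algebra.ofId k (S ⧸ Q)) hbij).symm)).trans
    Ideal.Quotient.eq_zero_iff_mem

theorem ringKrullDim_localization_le {P : Type*} [CommRing P] (S : Submonoid P) (L : Type*) [CommRing L]
    [Algebra P L] [IsLocalization S L] : ringKrullDim L ≤ ringKrullDim P :=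
  Order.krullDim_le_of_strictMono (fun Q => PrimeSpectrum.comap (algebraMap P L) Q)
    (Monotone.strictMono_of_injective (fun _ _ h => Ideal.comap_mono h)
      (PrimeSpectrum.localization_comap_injective L S))

end DegenGenLib

end
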