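import Groth.Agent.KleimanLib.GenSmooth
import Groth.Agent.UOpenLib.Criterion
import Mathlib.RingTheory.Smooth.Basic
import Mathlib.RingTheory.RingHom.Smooth

/-!
# Generic smoothness over an affine space of parameters
-/

set_option autoImplicit false
set_option linter.style.haveILetI false
set_option backward.isDefEq.respectTransparency false

universe u

open CategoryTheory CategoryTheory.Limits AlgebraicGeometry

noncomputable section

namespace DegenGenLib

theorem exists_smooth_away {k B : Type u} [Field k] [CharZero k] [CommRing B] [Algebra k B] [Algebra.Smooth k B]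
    {m : ℕ} (g : MvPolynomial (Fin m) k →+* B) (hg : g.comp MvPolynomial.C = algebraMap k B) :
    ∃ p : MvPolynomial (Fin m) k, p ≠ 0 ∧ ((algebraMap B (Localization.Away (g p))).comp g).Smooth := by
  let R := MvPolynomial (Fin m) k
  let f : Spec (CommRingCat.of B) ⟶ Spec (CommRingCat.of R) := Spec.map (CommRingCat.ofHom g)
  let q : Spec (CommRingCat.of R) ⟶ Spec (CommRingCat.of k) := Spec.map (CommRingCat.ofHom (algebraMap k R))
  have hfq : f ≫ q = Spec.map (CommRingCat.ofHom (algebraMap k B)) := by
    rw [← Spec.map_comp, ← CommRingCat.ofHom_comp, ← hg]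
    rfl
  haveI : Smooth (f ≫ q) := by
    rw [hfq, HasRingHomProperty.Spec_iff (P := @Smooth)]
    exact RingHom.smooth_algebraMap.mpr inferInstance
  haveI : LocallyOfFiniteType q := by
    rw [HasRingHomProperty.Spec_iff (P := @LocallyOfFiniteType)]
    exact RingHom.finiteType_algebraMap.mpr inferInstance
  haveI : LocallyOfFiniteType f := locallyOfFiniteType_of_comp f q
  haveI : LocallyOfFinitePresentation f := by
    haveI : IsLocallyNoetherian (Spec (CommRingCat.of R)) := inferInstance
    exact UOpenLib.locallyOfFinitePresentation_of_isLocallyNoetherian _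
  haveI : IsIntegral (Spec (CommRingCat.of R)) := inferInstance
  haveI := GeomRedFieldLib.perfectField_functionField_of_charZero q
  obtain ⟨V, ⟨v, hv⟩, hs⟩ := KleimanLib.exists_open_smooth_restrict (KleimanLib.regular_of_smooth (f ≫ q)) f
  obtain ⟨_, ⟨p, rfl⟩, hvp, hpV⟩ := PrimeSpectrum.isTopologicalBasis_basic_opens.exists_subset_of_mem_open hv V.2
  refine ⟨p, fun h0 ↦ ?_, ?_⟩
  · subst h0
    exact hvp (Ideal.zero_mem _)
  have key : Smooth (Spec.map (CommRingCat.ofHom (algebraMap B (Localization.Away (g p)))) ≫ f) := by
    let j := Spec.map (CommRingCat.ofHom (algebraMap B (Localization.Away (g p))))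
    haveI : IsOpenImmersion j := IsOpenImmersion.of_isLocalization (g p)
    have hr : Set.range j.base ⊆ Set.range (f ⁻¹ᵁ V).ι.base := by
      rw [Scheme.Opens.range_ι]
      rintro _ ⟨y, rfl⟩
      refine hpV (fun hmem ↦ ?_)
      exact y.isPrime.ne_top (Ideal.eq_top_of_isUnit_mem _ hmem (IsLocalization.Away.algebraMap_isUnit (g p)))
    haveI := hs
    show Smooth (j ≫ f)
    rw [← IsOpenImmersion.lift_fac _ j hr, Category.assoc, ← morphismRestrict_ι, ← Category.assoc]
    infer_instance
  rwa [← Spec.map_comp, HasRingHomProperty.Spec_iff (P := @Smooth)] at key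

end DegenGenLib

end
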