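import Groth.Agent.DegenGenLib.UnivDim
import Groth.Agent.DegenGenLib.Generic
import Mathlib.RingTheory.Ideal.GoingDown
import Mathlib.RingTheory.Smooth.Flat

/-!
# General members: smoothness and dimension
-/

set_option autoImplicit false
set_option linter.style.haveILetI false

noncomputable section

open Matrix MvPolynomial

namespace DegenGenLib

universe u

variable {k A : Type u} [Field k] [CommRing A] [Algebra k A] {f e r m : ℕ}

/-- The member at the parameter `c`. -/
def comb (a : Fin m → Matrix (Fin f) (Fin e) A) (c : Fin m → k) : Matrix (Fin f) (Fin e) A :=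
  Matrix.of fun i j => ∑ v, algebraMap k A (c v) * a v i j

/-- Evaluation at a parameter. -/
def evA (c : Fin m → k) : MvPolynomial (Fin m) A →+* A :=
  MvPolynomial.eval₂Hom (RingHom.id A) fun v => algebraMap k A (c v)

theorem univ_map_evA (a : Fin m → Matrix (Fin f) (Fin e) A) (c : Fin m → k) :
    (univ a).map (evA c) = comb a c := by
  ext i j
  rw [univ_map]
  simp [evA, comb]

/-- The parameters in the universal chart. -/
def par (a : Fin m → Matrix (Fin f) (Fin e) A) (R : Fin r → Fin f) (C : Fin r → Fin e) :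
    MvPolynomial (Fin m) k →+* Chart (univ a) R C :=
  (algebraMap (MvPolynomial (Fin m) A) (Chart (univ a) R C)).comp (MvPolynomial.map (algebraMap k A))

theorem par_C (a : Fin m → Matrix (Fin f) (Fin e) A) (R : Fin r → Fin f) (C : Fin r → Fin e) :
    (par (k := k) a R C).comp MvPolynomial.C = algebraMap k (Chart (univ a) R C) := by
  ext x
  rw [RingHom.comp_apply, par, RingHom.comp_apply, MvPolynomial.map_C,
    IsScalarTower.algebraMap_apply k (MvPolynomial (Fin m) A) (Chart (univ a) R C)]
  rfl

/-- The projection of the universal chart onto a member. -/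
theorem exists_ev (a : Fin m → Matrix (Fin f) (Fin e) A) (R : Fin r → Fin f) (C : Fin r → Fin e) (c : Fin m → k) :
    ∃ ev : Chart (univ a) R C →+* Chart (comb a c) R C,
      ev.comp (algebraMap (MvPolynomial (Fin m) A) (Chart (univ a) R C)) =
        (algebraMap A (Chart (comb a c) R C)).comp (evA c) := by
  refine chart_lift_exists ((algebraMap A (Chart (comb a c) R C)).comp (evA c)) ?_ ?_
  · rw [show (univ a).map ((algebraMap A (Chart (comb a c) R C)).comp (evA c)) =
      ((univ a).map (evA c)).map (algebraMap A (Chart (comb a c) R C)) from rfl, univ_map_evA]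
    exact chart_J _ R C
  · rw [RingHom.comp_apply, map_det (evA c), univ_map_evA]
    exact chart_isUnit _ R C

theorem ev_par (a : Fin m → Matrix (Fin f) (Fin e) A) (R : Fin r → Fin f) (C : Fin r → Fin e) (c : Fin m → k)
    (ev : Chart (univ a) R C →+* Chart (comb a c) R C)
    (hev : ev.comp (algebraMap (MvPolynomial (Fin m) A) (Chart (univ a) R C)) =
      (algebraMap A (Chart (comb a c) R C)).comp (evA c)) (p : MvPolynomial (Fin m) k) :
    ev (par a R C p) = algebraMap k (Chart (comb a c) R C) (MvPolynomial.eval c p) := by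
  rw [par, RingHom.comp_apply, ← RingHom.comp_apply ev, hev, RingHom.comp_apply,
    IsScalarTower.algebraMap_apply k A (Chart (comb a c) R C)]
  congr 1
  induction p using MvPolynomial.induction_on with
  | C z => simp [evA]
  | add p q hp hq => simp only [map_add, hp, hq]
  | mul_X p v hp => simp only [map_mul, hp]; simp [evA]

variable [Algebra.Smooth k A]

set_option maxHeartbeats 1000000 in
theorem smooth_member (a : Fin m → Matrix (Fin f) (Fin e) A) (R : Fin r → Fin f) (C : Fin r → Fin e)
    (p : MvPolynomial (Fin m) k)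
    (hp : ((algebraMap (Chart (univ a) R C) (Localization.Away (par a R C p))).comp (par (k := k) a R C)).Smooth)
    (c : Fin m → k) (hc : MvPolynomial.eval c p ≠ 0) : Algebra.Smooth k (Chart (comb a c) R C) := by
  refine ⟨Algebra.FormallySmooth.of_comp_surjective fun B _ _ I hI φ => ?_,
    Algebra.FinitePresentation.of_finiteType.1 inferInstance⟩
  let R₀ := MvPolynomial (Fin m) k
  let U := Chart (univ a) R C
  let F := Chart (comb a c) R C
  let L := Localization.Away (par (k := k) a R C p)
  obtain ⟨ev, hev⟩ := exists_ev a R C c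
  have hu : IsUnit (ev (par a R C p)) := by
    rw [ev_par a R C c ev hev]
    exact (IsUnit.mk0 _ hc).map _
  let evL : L →+* F := IsLocalization.Away.lift (S := L) (par a R C p) hu
  have hevL : evL.comp (algebraMap U L) = ev := IsLocalization.Away.lift_comp _ hu
  letI : Algebra R₀ L := ((algebraMap U L).comp (par (k := k) a R C)).toAlgebra
  haveI hfs : Algebra.FormallySmooth R₀ L := (hp : Algebra.Smooth R₀ L).formallySmooth
  letI : Algebra R₀ B := (MvPolynomial.eval₂Hom (algebraMap k B) fun i => algebraMap k B (c i)).toAlgebra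
  haveI : IsScalarTower R₀ B (B ⧸ I) := inferInstance
  have halg : ∀ q : R₀, algebraMap R₀ B q = algebraMap k B (MvPolynomial.eval c q) := fun q => by
    change MvPolynomial.eval₂Hom _ _ q = _
    rw [MvPolynomial.eval, coe_eval₂Hom, coe_eval₂Hom, MvPolynomial.eval₂_comp_left, RingHom.comp_id]
    rfl
  let g : L →ₐ[R₀] B ⧸ I :=
    { φ.toRingHom.comp evL with
      commutes' := fun q => by
        show φ (evL (algebraMap U L (par a R C q))) = algebraMap R₀ (B ⧸ I) q
        rw [← RingHom.comp_apply evL, hevL, ev_par a R C c ev hev, AlgHom.commutes,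
          IsScalarTower.algebraMap_apply R₀ B (B ⧸ I), halg]
        rfl }
  obtain ⟨ψ, hψ⟩ := @Algebra.FormallySmooth.comp_surjective R₀ L _ _ _ B _ _ hfs I hI g
  have hψ' : ∀ z : L, Ideal.Quotient.mk I (ψ z) = φ (evL z) := fun z => AlgHom.congr_fun hψ z
  let ψP : MvPolynomial (Fin m) A →+* B :=
    ψ.toRingHom.comp ((algebraMap U L).comp (algebraMap (MvPolynomial (Fin m) A) U))
  let ψA : A →+* B := ψP.comp MvPolynomial.C
  have hψk : ∀ z : k, ψA (algebraMap k A z) = algebraMap k B z := fun z => by
    show ψ (algebraMap U L (algebraMap _ U (MvPolynomial.C (algebraMap k A z)))) = _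
    rw [← MvPolynomial.map_C (algebraMap k A) z]
    refine (ψ.commutes (MvPolynomial.C z : R₀)).trans ?_
    rw [halg, eval_C]
  have hM : (comb a c).map ψA = (univ a).map ψP := by
    ext i j
    rw [univ_map, Matrix.map_apply, comb, Matrix.of_apply, map_sum]
    refine Finset.sum_congr rfl fun v _ => ?_
    rw [map_mul, hψk]
    refine congrArg (· * ψA (a v i j)) ?_
    show _ = ψ (algebraMap U L (algebraMap _ U (X v)))
    rw [← MvPolynomial.map_X (algebraMap k A) v]
    refine Eq.trans ?_ (ψ.commutes (X v : R₀)).symm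
    rw [halg, eval_X]
  have hJ : J ((comb a c).map ψA) (r + 1) = ⊥ := by
    rw [hM, show (univ a).map ψP = ((univ a).map (algebraMap (MvPolynomial (Fin m) A) U)).map
      (ψ.toRingHom.comp (algebraMap U L)) from rfl, ← J_map, chart_J, Ideal.map_bot]
  have hδ : IsUnit (ψA ((comb a c).submatrix R C).det) := by
    rw [map_det ψA, hM, show (univ a).map ψP = ((univ a).map (algebraMap (MvPolynomial (Fin m) A) U)).map
      (ψ.toRingHom.comp (algebraMap U L)) from rfl]
    exact isUnit_det_map _ (chart_isUnit' (univ a) R C)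
  obtain ⟨G, hG⟩ := chart_lift_exists (R := R) (C := C) ψA hJ hδ
  refine ⟨{ G with
    commutes' := fun z => by
      show G (algebraMap k F z) = _
      rw [IsScalarTower.algebraMap_apply k A F, ← RingHom.comp_apply G, hG, hψk] }, AlgHom.ext fun z => ?_⟩
  refine RingHom.congr_fun (chart_hom_ext (g := (Ideal.Quotient.mk I).comp G) (g' := φ.toRingHom) ?_) z
  rw [RingHom.comp_assoc, hG]
  ext z
  show Ideal.Quotient.mk I (ψ (algebraMap U L (algebraMap _ U (MvPolynomial.C z)))) = φ (algebraMap A F z)
  rw [hψ', ← RingHom.comp_apply evL, hevL, ← RingHom.comp_apply ev, hev]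
  simp [evA]
  rfl

/-- The height of a point in a fibre of a flat map. -/
theorem height_fibre_le {R L F : Type*} [CommRing R] [IsNoetherianRing R] [CommRing L] [IsNoetherianRing L] [CommRing F]
    (g : R →+* L) (hg : g.Flat) (π : L →+* F) (hπ : Function.Surjective π) (𝔠 : Ideal R) [𝔠.IsPrime]
    (h0 : ∀ x ∈ 𝔠, π (g x) = 0) (q : Ideal F) [q.IsPrime] (hq : (q.comap π).comap g = 𝔠) :
    𝔠.height + q.height ≤ (q.comap π).height := by
  letI := g.toAlgebra
  haveI : Module.Flat R L := hg
  haveI : (q.comap π).LiesOver 𝔠 := ⟨hq.symm⟩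
  rw [Ideal.height_eq_height_add_of_liesOver_of_hasGoingDown 𝔠 (q.comap π)]
  refine add_le_add le_rfl ?_
  let π' : L ⧸ 𝔠.map (algebraMap R L) →+* F := Ideal.Quotient.lift _ π fun z hz =>
    (Ideal.map_le_iff_le_comap.2 (fun x hx => RingHom.mem_ker.2 (h0 x hx)) : 𝔠.map (algebraMap R L) ≤ RingHom.ker π) hz
  have hπ' : Function.Surjective π' := fun y => by
    obtain ⟨z, rfl⟩ := hπ y
    exact ⟨Ideal.Quotient.mk _ z, rfl⟩
  have he : (q.comap π).map (Ideal.Quotient.mk (𝔠.map (algebraMap R L))) = q.comap π' := by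
    conv_lhs => rw [show q.comap π = (q.comap π').comap (Ideal.Quotient.mk (𝔠.map (algebraMap R L))) from rfl]
    exact Ideal.map_comap_of_surjective _ Ideal.Quotient.mk_surjective _
  rw [he]
  have h := Order.height_le_height_apply_of_strictMono (PrimeSpectrum.comap π')
    (RingHom.strictMono_comap_of_surjective hπ') (⟨q, inferInstance⟩ : PrimeSpectrum F)
  rw [← PrimeSpectrum.height_eq_orderHeight, ← PrimeSpectrum.height_eq_orderHeight] at h
  exact h

variable [IsAlgClosed k] [IsDomain A]

set_option maxHeartbeats 1000000 in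
theorem height_member (n : ℕ) (hn : ringKrullDim A = n) (a : Fin m → Matrix (Fin f) (Fin e) A) (R : Fin r → Fin f)
    (C : Fin r → Fin e) (S₀ : Set (Fin f × Fin e)) (ha : Spans S₀ a)
    (hS₀ : ∀ i ∉ Set.range R, ∀ j ∉ Set.range C, (i, j) ∈ S₀)
    (p : MvPolynomial (Fin m) k)
    (hp : ((algebraMap (Chart (univ a) R C) (Localization.Away (par a R C p))).comp (par (k := k) a R C)).Smooth)
    (c : Fin m → k) (hc : MvPolynomial.eval c p ≠ 0) (q : Ideal (Chart (comb a c) R C)) [q.IsMaximal] :
    q.height + (((f - r) * (e - r) : ℕ) : ℕ∞) = (n : ℕ∞) := by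
  classical
  let R₀ := MvPolynomial (Fin m) k
  let U := Chart (univ a) R C
  let F := Chart (comb a c) R C
  let L := Localization.Away (par (k := k) a R C p)
  let N' := (f - r) * (e - r)
  haveI : IsNoetherianRing A := Algebra.FiniteType.isNoetherianRing k A
  haveI : IsNoetherianRing F := Algebra.FiniteType.isNoetherianRing k F
  haveI : IsNoetherianRing U := Algebra.FiniteType.isNoetherianRing k U
  haveI : IsNoetherianRing L := IsLocalization.isNoetherianRing (Submonoid.powers (par a R C p)) L inferInstance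
  obtain ⟨χF, hχF⟩ := exists_point (k := k) q
  obtain ⟨ev, hev⟩ := exists_ev a R C c
  -- the upper bound
  have hu : IsUnit (ev (par a R C p)) := by
    rw [ev_par a R C c ev hev]
    exact (IsUnit.mk0 _ hc).map _
  let evL : L →+* F := IsLocalization.Away.lift (S := L) (par a R C p) hu
  have hevL : evL.comp (algebraMap U L) = ev := IsLocalization.Away.lift_comp _ hu
  let g : R₀ →+* L := (algebraMap U L).comp (par (k := k) a R C)
  have hgflat : g.Flat := by
    letI := g.toAlgebra
    exact @Algebra.Smooth.flat R₀ L _ _ _ hp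
  have hsurj : ∀ y : F, ∃ z, ev z = y := by
    intro y
    obtain ⟨b, l, hl⟩ := chart_exists y
    obtain ⟨w, hw⟩ := chart_isUnit (univ a) R C
    refine ⟨algebraMap (MvPolynomial (Fin m) A) U (MvPolynomial.C b) * (w⁻¹ ^ l : Uˣ), ?_⟩
    have hd : ev w = algebraMap A F ((comb a c).submatrix R C).det := by
      rw [hw, ← RingHom.comp_apply ev, hev, RingHom.comp_apply, map_det (evA c), univ_map_evA]
    refine ((chart_isUnit (comb a c) R C).pow l).mul_left_inj.1 ?_
    rw [hl, ← hd, ← map_pow, ← map_mul, mul_assoc, ← Units.val_pow_eq_pow_val, ← Units.val_mul, ← mul_pow,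
      inv_mul_cancel, one_pow, Units.val_one, mul_one, ← RingHom.comp_apply ev, hev]
    simp [evA]
  have hsurjL : Function.Surjective evL := fun y => by
    obtain ⟨z, rfl⟩ := hsurj y
    exact ⟨algebraMap U L z, RingHom.congr_fun hevL z⟩
  let QL := q.comap evL
  haveI : QL.IsMaximal := Ideal.comap_isMaximal_of_surjective evL hsurjL
  let 𝔠 : Ideal R₀ := RingHom.ker (MvPolynomial.eval c)
  haveI : 𝔠.IsMaximal := RingHom.ker_isMaximal_of_surjective (MvPolynomial.eval c) fun z => ⟨MvPolynomial.C z, eval_C z⟩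
  have hover : QL.comap g = 𝔠 := by
    ext x
    show evL (algebraMap U L (par a R C x)) ∈ q ↔ _
    rw [← RingHom.comp_apply evL, hevL, ev_par a R C c ev hev, ← hχF, RingHom.mem_ker, RingHom.mem_ker]
    show χF (algebraMap k F _) = 0 ↔ _
    rw [χF.commutes]
    rfl
  have hcap : 𝔠.height = (m : ℕ∞) := MaxHeight.mvPolynomial k m 𝔠
  have h2 : 𝔠.height + q.height ≤ QL.height := height_fibre_le g hgflat evL hsurjL 𝔠 (fun x hx => by
    show evL (algebraMap U L (par a R C x)) = 0
    rw [← RingHom.comp_apply evL, hevL, ev_par a R C c ev hev, RingHom.mem_ker.1 hx, map_zero]) q hover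
  let QU := QL.comap (algebraMap U L)
  haveI : QU.IsMaximal := by
    have : QU = q.comap ev := by
      show (q.comap evL).comap (algebraMap U L) = _
      rw [Ideal.comap_comap, hevL]
    rw [this]
    exact Ideal.comap_isMaximal_of_surjective ev hsurj
  have h3 : QL.height = QU.height := (IsLocalization.height_comap (Submonoid.powers (par a R C p)) QL).symm
  have h4 := height_univ_le (k := k) n hn a R C S₀ ha hS₀ QU
  have hub : q.height + (N' : ℕ∞) ≤ (n : ℕ∞) := by
    refine WithTop.le_of_add_le_add_left (x := (m : ℕ∞)) (ENat.coe_ne_top m) ?_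
    calc (m : ℕ∞) + (q.height + N') ≤ QL.height + N' := by
          rw [← hcap, ← add_assoc]
          exact add_le_add h2 le_rfl
      _ = QU.height + N' := by rw [h3]
      _ ≤ ((n + m : ℕ) : ℕ∞) := h4
      _ = _ := by push_cast; exact add_comm _ _
  refine le_antisymm hub ?_
  -- the lower bound
  let M := comb a c
  let δ := (M.submatrix R C).det
  let Aδ := Localization.Away δ
  let Mδ := M.map (algebraMap A Aδ)
  haveI : IsNoetherianRing Aδ := IsLocalization.isNoetherianRing (Submonoid.powers δ) Aδ inferInstance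
  have huδ : IsUnit (Mδ.submatrix R C).det :=
    map_det (algebraMap A Aδ) M R C ▸ IsLocalization.Away.algebraMap_isUnit δ
  let S : Set Aδ := Set.range fun ij : {i // i ∉ Set.range R} × {j // j ∉ Set.range C} => bord Mδ R C ij.1.1 ij.2.1
  let θ : Aδ →+* F := IsLocalization.Away.lift (S := Aδ) δ (chart_isUnit M R C)
  have hθ : θ.comp (algebraMap A Aδ) = algebraMap A F := IsLocalization.Away.lift_comp _ _
  have hθsurj : Function.Surjective θ := fun y => by
    obtain ⟨b, l, hl⟩ := chart_exists y
    refine ⟨algebraMap A Aδ b * IsLocalization.Away.invSelf δ ^ l, ((chart_isUnit M R C).pow l).mul_left_inj.1 ?_⟩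
    rw [hl, ← RingHom.congr_fun hθ, ← RingHom.congr_fun hθ]
    simp only [RingHom.comp_apply]
    rw [← map_pow, ← map_mul, mul_assoc, ← mul_pow, mul_comm (IsLocalization.Away.invSelf δ),
      IsLocalization.Away.mul_invSelf, one_pow, mul_one]
  let Qδ := q.comap θ
  haveI : Qδ.IsMaximal := Ideal.comap_isMaximal_of_surjective θ hθsurj
  have hS : S ⊆ Qδ := by
    rintro _ ⟨ij, rfl⟩
    show θ _ ∈ q
    rw [map_bord, show Mδ.map θ = M.map (algebraMap A F) from congrArg M.map (congrArg DFunLike.coe hθ)]
    have := bord_mem (M.map (algebraMap A F)) R C ij.1.1 ij.2.1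
    rw [chart_J, Ideal.mem_bot] at this
    rw [this]
    exact zero_mem q
  have hkerθ : RingHom.ker θ ≤ Ideal.span S := by
    let T := Aδ ⧸ Ideal.span S
    let mkS : Aδ →+* T := Ideal.Quotient.mk _
    have hJ : J (M.map (mkS.comp (algebraMap A Aδ))) (r + 1) = ⊥ := by
      refine J_eq_bot_of_bord (R := R) (C := C) (isUnit_det_map mkS huδ) fun i hi j hj => ?_
      show bord (Mδ.map mkS) R C i j = 0
      rw [← map_bord]
      exact Ideal.Quotient.eq_zero_iff_mem.2 (Ideal.subset_span ⟨(⟨i, hi⟩, ⟨j, hj⟩), rfl⟩)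
    obtain ⟨G, hG⟩ := chart_lift_exists (R := R) (C := C) (mkS.comp (algebraMap A Aδ)) hJ
      ((IsLocalization.Away.algebraMap_isUnit δ).map mkS)
    have hGθ : G.comp θ = mkS := IsLocalization.ringHom_ext (Submonoid.powers δ) (by rw [RingHom.comp_assoc, hθ, hG])
    intro z hz
    refine Ideal.Quotient.eq_zero_iff_mem.1 ((RingHom.congr_fun hGθ z).symm.trans ?_)
    rw [RingHom.comp_apply, RingHom.mem_ker.1 hz, map_zero]
  have h5 := Ideal.height_le_height_add_encard_of_subset S hS
  have h6 : (Qδ.map (Ideal.Quotient.mk (Ideal.span S))).height ≤ q.height := by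
    have hle : Ideal.span S ≤ RingHom.ker θ := by
      rw [Ideal.span_le]
      rintro _ ⟨ij, rfl⟩
      show θ _ = 0
      rw [map_bord, show Mδ.map θ = M.map (algebraMap A F) from congrArg M.map (congrArg DFunLike.coe hθ)]
      have := bord_mem (M.map (algebraMap A F)) R C ij.1.1 ij.2.1
      rwa [chart_J, Ideal.mem_bot] at this
    let θb : Aδ ⧸ Ideal.span S ≃+* F :=
      RingEquiv.ofBijective (Ideal.Quotient.lift _ θ fun z hz => hle hz)
        ⟨by
          rw [injective_iff_map_eq_zero]
          intro z hz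
          obtain ⟨z, rfl⟩ := Ideal.Quotient.mk_surjective z
          exact Ideal.Quotient.eq_zero_iff_mem.2 (hkerθ hz),
        fun y => by obtain ⟨z, rfl⟩ := hθsurj y; exact ⟨Ideal.Quotient.mk _ z, rfl⟩⟩
    have he : Qδ.map (Ideal.Quotient.mk (Ideal.span S)) = q.comap θb := by
      conv_lhs => rw [show Qδ = (q.comap θb).comap (Ideal.Quotient.mk (Ideal.span S)) from rfl]
      exact Ideal.map_comap_of_surjective _ Ideal.Quotient.mk_surjective _
    rw [he, θb.height_comap]
  have h7 : Qδ.height = (n : ℕ∞) := by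
    let χ : A →ₐ[k] k := χF.comp (IsScalarTower.toAlgHom k A F)
    have hmax : (Qδ.comap (algebraMap A Aδ)).IsMaximal := by
      rw [show Qδ.comap (algebraMap A Aδ) = RingHom.ker χ.toRingHom by
        show (q.comap θ).comap (algebraMap A Aδ) = _
        rw [Ideal.comap_comap, hθ, ← hχF]
        rfl]
      exact RingHom.ker_isMaximal_of_surjective χ.toRingHom fun c => ⟨algebraMap k A c, χ.commutes c⟩
    rw [← IsLocalization.height_comap (Submonoid.powers δ) Qδ]
    exact WithBot.coe_inj.1 ((MaxHeight.affine_domain k A (Qδ.comap (algebraMap A Aδ))).trans hn)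
  obtain ⟨hR, hC⟩ := injective_of_isUnit (M := (M.map (algebraMap A F)).map χF) (R := R) (C := C)
    (isUnit_det_map χF.toRingHom (chart_isUnit' M R C))
  have h8 : S.encard ≤ (N' : ℕ∞) := by
    change (Set.range _).encard ≤ _
    rw [← Set.image_univ]
    refine (Set.encard_image_le _ _).trans ?_
    rw [Set.encard_univ, ENat.card_eq_coe_fintype_card, Fintype.card_prod, card_compl R hR, card_compl C hC]
  rw [h7] at h5
  exact h5.trans (add_le_add h6 h8)

theorem exists_good [CharZero k] (n : ℕ) (hn : ringKrullDim A = n) (a : Fin m → Matrix (Fin f) (Fin e) A) (R : Fin r → Fin f)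
    (C : Fin r → Fin e) (S₀ : Set (Fin f × Fin e)) (ha : Spans S₀ a)
    (hS₀ : ∀ i ∉ Set.range R, ∀ j ∉ Set.range C, (i, j) ∈ S₀) :
    ∃ p : MvPolynomial (Fin m) k, p ≠ 0 ∧ ∀ c : Fin m → k, MvPolynomial.eval c p ≠ 0 →
      Algebra.Smooth k (Chart (comb a c) R C) ∧
      ∀ q : Ideal (Chart (comb a c) R C), q.IsMaximal → q.height + (((f - r) * (e - r) : ℕ) : ℕ∞) = (n : ℕ∞) := by
  haveI := smooth_univ (k := k) a R C S₀ ha hS₀
  obtain ⟨p, hp0, hp⟩ := exists_smooth_away (par a R C) (par_C (k := k) a R C)
  exact ⟨p, hp0, fun c hc => ⟨smooth_member a R C p hp c hc,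
    fun q hq => haveI := hq; height_member n hn a R C S₀ ha hS₀ p hp c hc q⟩⟩

end DegenGenLib

end
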