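import Groth.Agent.DegenGenLib.Gen
import Groth.Agent.DegenGenLib.Fibre
import Groth.Agent.FinCovLib.Cover
import Groth.Agent.FittLib.Sheaf
import Groth.Agent.BertiniJetLib.Zero
import Groth.Agent.S17486

/-!
# Matrices of homomorphisms on a trivialising affine open
-/

set_option autoImplicit false
set_option linter.style.haveILetI false
set_option backward.isDefEq.respectTransparency false
set_option backward.isDefEq.respectTransparency.types false

noncomputable section

universe u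

open CategoryTheory CategoryTheory.Limits AlgebraicGeometry TopologicalSpace Opposite
open ProjFormLib (ger ger_smul ger_map IsFrame)

namespace DegenGenLib

theorem fitt_J {A M : Type u} [CommRing A] [AddCommGroup M] [Module A M] {f e : ℕ}
    (μ : Matrix (Fin f) (Fin e) A) (π : (Fin f → A) →ₗ[A] M) (hπ : Function.Surjective π)
    (hex : Function.Exact (Matrix.mulVecLin μ) π) (l : ℕ) : Fitt.ideal A M l = J μ (f - l) := by
  classical
  let x : Fin f → M := fun i => π (Pi.single i 1)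
  have hlc : ∀ z, π z = ∑ i, z i • x i := fun z => by
    conv_lhs => rw [← Finset.univ_sum_single z]
    rw [map_sum]
    refine Finset.sum_congr rfl fun i _ => ?_
    rw [← map_smul, ← Pi.single_smul, smul_eq_mul, mul_one]
  have hx : Submodule.span A (Set.range x) = ⊤ := by
    rw [eq_top_iff]
    rintro b -
    obtain ⟨z, rfl⟩ := hπ b
    rw [hlc]
    exact Submodule.sum_mem _ fun i _ => Submodule.smul_mem _ _ (Submodule.subset_span ⟨i, rfl⟩)
  have hrel : FittLib.rel (R := A) x = (Submodule.span A (Set.range μ.col) : Set (Fin f → A)) := by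
    rw [← Matrix.range_mulVecLin]
    ext z
    show ∑ i, z i • x i = 0 ↔ _
    rw [← hlc]
    exact hex z
  rw [FittLib.ideal_eq x hx, hrel, FittLib.J_span]
  refine le_antisymm (FittLib.J_le_iff.2 fun z σ hz => ?_) (Ideal.span_le.2 ?_)
  · choose τ hτ using hz
    have h : FittLib.minor z σ = (μ.submatrix σ τ).det := by
      refine congrArg Matrix.det (Matrix.ext fun a b => ?_)
      exact (congrFun (hτ b) (σ a)).symm
    exact h ▸ det_mem_J μ σ τ
  · rintro _ ⟨⟨σ, τ⟩, rfl⟩
    exact FittLib.minor_mem (z := fun b => μ.col (τ b)) σ fun b => ⟨τ b, rfl⟩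

variable {k : Type u} [Field k] {X : Scheme.{u}} [X.Over (Spec (CommRingCat.of k))] {E F : X.Modules}
  {U : X.Opens} {e f : ℕ}

/-- The matrix of a homomorphism. -/
def mat (bE : Module.Basis (Fin e) Γ(X, U) Γ(E, U)) (bF : Module.Basis (Fin f) Γ(X, U) Γ(F, U)) (φ : E ⟶ F) :
    Matrix (Fin f) (Fin e) Γ(X, U) :=
  LinearMap.toMatrix bE bF (Groth.Agent.S17486.lin φ U)

variable (bE : Module.Basis (Fin e) Γ(X, U) Γ(E, U)) (bF : Module.Basis (Fin f) Γ(X, U) Γ(F, U))

theorem mat_apply (φ : E ⟶ F) (i : Fin f) (j : Fin e) : mat bE bF φ i j = bF.repr (φ.app U (bE j)) i :=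
  LinearMap.toMatrix_apply _ _ _ _ _

theorem mat_add (φ ψ : E ⟶ F) : mat bE bF (φ + ψ) = mat bE bF φ + mat bE bF ψ := by
  rw [mat, Groth.Agent.S17486.lin_add, map_add]
  rfl

theorem mat_zero : mat bE bF (0 : E ⟶ F) = 0 := by
  rw [mat, Groth.Agent.S17486.lin_zero, map_zero]

theorem mat_smul (c : k) (φ : E ⟶ F) (i : Fin f) (j : Fin e) :
    letI := BertiniJetLib.algOn (X ↘ Spec (CommRingCat.of k)) U
    mat bE bF (c • φ) i j = algebraMap k Γ(X, U) c * mat bE bF φ i j := by
  rw [mat_apply, mat_apply, KLin.smul_app_apply, map_smul]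
  rfl

theorem mat_sum {m : ℕ} (b : Fin m → (E ⟶ F)) (c : Fin m → k) :
    letI := BertiniJetLib.algOn (X ↘ Spec (CommRingCat.of k)) U
    mat bE bF (∑ v, c v • b v) = comb (fun v => mat bE bF (b v)) c := by
  letI := BertiniJetLib.algOn (X ↘ Spec (CommRingCat.of k)) U
  let T : (E ⟶ F) →+ Matrix (Fin f) (Fin e) Γ(X, U) :=
    { toFun := mat bE bF, map_zero' := mat_zero bE bF, map_add' := mat_add bE bF }
  ext i j
  show T _ i j = _
  rw [map_sum, comb, Matrix.of_apply, Matrix.sum_apply]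
  exact Finset.sum_congr rfl fun v _ => mat_smul bE bF (c v) (b v) i j

theorem fitt_cokernel [Coh.IsQCoh E] [Coh.IsQCoh F] (hU : IsAffineOpen U) (φ : E ⟶ F) (l : ℕ) :
    Fitt.ideal Γ(X, U) Γ(cokernel φ, U) l = J (mat bE bF φ) (f - l) := by
  classical
  obtain ⟨hex, hsur⟩ := Groth.Agent.S17486.exact_sections φ hU
  let L := Groth.Agent.S17486.lin φ U
  let π := Groth.Agent.S17486.lin (cokernel.π φ) U
  refine fitt_J (mat bE bF φ) (π ∘ₗ bF.equivFun.symm.toLinearMap) (hsur.comp bF.equivFun.symm.surjective) ?_ l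
  have h1 : ∀ z, Matrix.mulVecLin (mat bE bF φ) z = bF.equivFun (L (bE.equivFun.symm z)) := fun z => by
    rw [Matrix.mulVecLin_apply]
    conv_lhs => rw [show z = bE.equivFun (bE.equivFun.symm z) from (LinearEquiv.apply_symm_apply _ _).symm]
    exact LinearMap.toMatrix_mulVec_repr bE bF L (bE.equivFun.symm z)
  intro z
  show π (bF.equivFun.symm z) = 0 ↔ _
  rw [hex (bF.equivFun.symm z)]
  constructor
  · rintro ⟨s, hs⟩
    refine ⟨bE.equivFun s, ?_⟩
    rw [h1, LinearEquiv.symm_apply_apply]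
    exact (congrArg bF.equivFun hs).trans (LinearEquiv.apply_symm_apply _ _)
  · rintro ⟨s, rfl⟩
    exact ⟨bE.equivFun.symm s, by rw [h1, LinearEquiv.symm_apply_apply]⟩

/-- Over an affine trivialising open, the matrices of a basis of `Hom(E, F)` span all matrices. -/
theorem spans_mat [Coh.IsQCoh E] [Coh.IsQCoh F] (hU : IsAffineOpen U) (hspan : HSpan E F)
    {m : ℕ} (b : Fin m → (E ⟶ F)) (hb : ∀ φ : E ⟶ F, ∃ c : Fin m → k, φ = ∑ v, c v • b v) :
    Spans Set.univ (fun v => mat bE bF (b v)) := by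
  classical
  letI := BertiniJetLib.algOn (X ↘ Spec (CommRingCat.of k)) U
  let A := Γ(X, U)
  let a : Fin m → Matrix (Fin f) (Fin e) A := fun v => mat bE bF (b v)
  refine ⟨fun p _ => ?_, fun v i j h => absurd (Set.mem_univ _) h⟩
  let Ep : Fin f → Fin e → A := fun i j => if (i, j) = p then 1 else 0
  let I : Ideal A :=
    { carrier := {s | ∃ β : Fin m → A, ∀ i j, (∑ v, β v * a v i j) = s * Ep i j}
      zero_mem' := ⟨0, fun i j => by simp⟩
      add_mem' := by
        rintro s t ⟨β, hβ⟩ ⟨γ, hγ⟩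
        exact ⟨β + γ, fun i j => by simp [add_mul, Finset.sum_add_distrib, hβ, hγ]⟩
      smul_mem' := by
        rintro c s ⟨β, hβ⟩
        exact ⟨c • β, fun i j => by
          simp only [Pi.smul_apply, smul_eq_mul, mul_assoc, ← Finset.mul_sum, hβ]⟩ }
  suffices h : I = ⊤ by
    obtain ⟨β, hβ⟩ : (1 : A) ∈ I := h ▸ Submodule.mem_top
    exact ⟨β, fun i j => (hβ i j).trans (one_mul _)⟩
  by_contra hI
  obtain ⟨P, hP, hle⟩ := Ideal.exists_le_maximal I hI
  let y : X := hU.fromSpec ⟨P, hP.isPrime⟩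
  have hy : y ∈ U := hU.range_fromSpec.subset ⟨_, rfl⟩
  have hyP : hU.primeIdealOf ⟨y, hy⟩ = ⟨P, hP.isPrime⟩ :=
    hU.fromSpec.isOpenEmbedding.injective (hU.fromSpec_primeIdealOf ⟨y, hy⟩)
  letI : Algebra A (X.presheaf.stalk y) := (X.presheaf.germ U y hy).hom.toAlgebra
  haveI : IsLocalization.AtPrime (X.presheaf.stalk y) (hU.primeIdealOf ⟨y, hy⟩).asIdeal :=
    hU.isLocalization_stalk ⟨y, hy⟩
  let O := X.presheaf.stalk y
  let g : A →+* O := algebraMap A O
  let fE := FinCovLib.isFrame_of_affine_basis hU bE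
  let fF := FinCovLib.isFrame_of_affine_basis hU bF
  let BE := fE.basis y hy
  let BF := fF.basis y hy
  let T : (CohCmpLib.stk E y →ₗ[O] CohCmpLib.stk F y) ≃ₗ[O] Matrix (Fin f) (Fin e) O := LinearMap.toMatrix BE BF
  have hT : ∀ φ : E ⟶ F, T ((DerSch.stalkFunctor X y).map φ).hom = (mat bE bF φ).map g := by
    intro φ
    ext i j
    rw [LinearMap.toMatrix_apply, IsFrame.basis_apply, ger_map, Matrix.map_apply, mat_apply]
    have h : ger F y hy (φ.app U (bE j)) = ∑ l, g (bF.repr (φ.app U (bE j)) l) • BF l := by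
      conv_lhs => rw [← bF.sum_repr (φ.app U (bE j))]
      rw [CohCmpLib.ger_sum]
      refine Finset.sum_congr rfl fun l _ => ?_
      rw [ger_smul, IsFrame.basis_apply]
      rfl
    rw [h, map_sum, Finsupp.coe_finset_sum, Finset.sum_apply]
    simp [Finsupp.single_apply]
  let E₀ : Matrix (Fin f) (Fin e) O := Matrix.of fun i j => g (Ep i j)
  have hmem : E₀ ∈ Submodule.span O (Set.range fun v => (a v).map g) := by
    have h := congrArg (Submodule.map T.toLinearMap) (hspan y)
    rw [Submodule.map_span, Submodule.map_top, LinearEquiv.range, ← Set.range_comp] at h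
    refine (?_ : Submodule.span O _ ≤ _) (h.symm ▸ Submodule.mem_top (x := E₀))
    rw [Submodule.span_le]
    rintro _ ⟨φ, rfl⟩
    show T ((DerSch.stalkFunctor X y).map φ).hom ∈ _
    obtain ⟨c, rfl⟩ := hb φ
    rw [hT, mat_sum bE bF b c]
    have : (comb a c).map g = ∑ v, g (algebraMap k A (c v)) • (a v).map g := by
      ext i j
      simp [comb, Matrix.sum_apply, map_sum, map_mul]
    rw [this]
    exact Submodule.sum_mem _ fun v _ => Submodule.smul_mem _ _ (Submodule.subset_span ⟨v, rfl⟩)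
  obtain ⟨γ, hγ⟩ := (Submodule.mem_span_range_iff_exists_fun O).1 hmem
  obtain ⟨⟨s, hs⟩, hint⟩ := IsLocalization.exist_integer_multiples
    (hU.primeIdealOf ⟨y, hy⟩).asIdeal.primeCompl Finset.univ γ
  choose β hβ using fun v => hint v (Finset.mem_univ v)
  have heq : ∀ q : Fin f × Fin e, g (∑ v, β v * a v q.1 q.2) = g (s * Ep q.1 q.2) := fun q => by
    have := congrFun (congrFun hγ q.1) q.2
    simp only [Matrix.sum_apply, Matrix.smul_apply, smul_eq_mul, Matrix.map_apply, E₀, Matrix.of_apply] at this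
    rw [map_mul, map_sum, ← this, Finset.mul_sum]
    refine Finset.sum_congr rfl fun v _ => ?_
    rw [map_mul, show g (β v) = _ from hβ v, Algebra.smul_def, mul_assoc]
  choose t ht using fun q => (IsLocalization.eq_iff_exists (hU.primeIdealOf ⟨y, hy⟩).asIdeal.primeCompl O).1 (heq q)
  let t₀ : (hU.primeIdealOf ⟨y, hy⟩).asIdeal.primeCompl := ∏ q, t q
  have hmemI : (t₀ : A) * s ∈ I := by
    refine ⟨fun v => (t₀ : A) * β v, fun i j => ?_⟩
    simp only [mul_assoc, ← Finset.mul_sum]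
    obtain ⟨d, hd⟩ : ∃ d, t₀ = t (i, j) * d := ⟨_, (Finset.mul_prod_erase _ _ (Finset.mem_univ (i, j))).symm⟩
    rw [hd, Submonoid.coe_mul, mul_right_comm, ht (i, j), mul_right_comm (↑(t (i, j))) (↑d : A)]
  have hnot : (t₀ : A) * s ∉ P := fun h => by
    have h' : (t₀ : A) * s ∈ (hU.primeIdealOf ⟨y, hy⟩).asIdeal :=
      (congrArg PrimeSpectrum.asIdeal hyP).ge h
    exact ((hU.primeIdealOf ⟨y, hy⟩).asIdeal.primeCompl.mul_mem t₀.2 hs) h'
  exact hnot (hle hmemI)

end DegenGenLib

end
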