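import Groth.Agent.FibDimLib.Comps
import Groth.Agent.SmoothGenLib.Dim
import Groth.Agent.DegenGenLib.Chart
import Groth.Agent.FibDimLib.QFScheme

/-!
# Local dimensions of affine schemes all of whose closed points have the same height
-/

set_option autoImplicit false

universe u

open CategoryTheory AlgebraicGeometry TopologicalSpace

namespace DegenGenLib

theorem localDim_eq_of_height (k : Type u) [Field k] {F : Type u} [CommRing F] [Algebra k F] [Algebra.FiniteType k F]
    (d : ℕ) (hd : ∀ q : Ideal F, q.IsMaximal → q.height = (d : ℕ∞)) (x : PrimeSpectrum F) :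
    FlatMor.localDim (PrimeSpectrum F) x = (d : WithBot ℕ∞) := by
  haveI : IsNoetherianRing F := Algebra.FiniteType.isNoetherianRing k F
  refine le_antisymm ((FibDimLib.localDim_le x).trans ?_) (le_iInf fun U => ?_)
  · rw [PrimeSpectrum.topologicalKrullDim_eq_ringKrullDim, ringKrullDim_le_iff_isMaximal_height_le]
    intro q hq
    rw [hd q hq]
    rfl
  obtain ⟨_, ⟨g, rfl⟩, hxg, hU⟩ := PrimeSpectrum.isTopologicalBasis_basic_opens.exists_subset_of_mem_open U.2 U.1.2
  haveI : IsJacobsonRing F := isJacobsonRing_of_finiteType (A := k)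
  have hj : g ∉ x.asIdeal.jacobson := by
    rw [IsJacobsonRing.out ‹IsJacobsonRing F› x.isPrime.isRadical]
    exact hxg
  rw [Ideal.jacobson, Ideal.mem_sInf] at hj
  push_neg at hj
  obtain ⟨q, ⟨hxq, hq⟩, hgq⟩ := hj
  refine le_trans ?_ (Topology.IsEmbedding.inclusion hU).isInducing.topologicalKrullDim_le
  rw [SmoothGenLib.topologicalKrullDim_basicOpen]
  haveI := hq
  have hdis : Disjoint (Submonoid.powers g : Set F) q := by
    refine Set.disjoint_left.2 ?_
    rintro _ ⟨l, rfl⟩ hl
    exact hgq (hq.isPrime.mem_of_pow_mem l hl)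
  haveI : (q.map (algebraMap F (Localization.Away g))).IsPrime :=
    IsLocalization.isPrime_of_isPrime_disjoint (Submonoid.powers g) _ q hq.isPrime hdis
  refine le_trans ?_ (Ideal.height_le_ringKrullDim_of_isPrime (I := q.map (algebraMap F (Localization.Away g))))
  rw [← IsLocalization.height_under (Submonoid.powers g) (q.map (algebraMap F (Localization.Away g))),
    IsLocalization.under_map_of_isPrime_disjoint (Submonoid.powers g) (Localization.Away g) hq.isPrime hdis, hd q hq]
  rfl

end DegenGenLib
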