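import Groth.Agent.DegenGenLib.Split
import Groth.Agent.EulerPnLib.Deriv
import Groth.Agent.PicPnLib.Twist
import Groth.Agent.ParaFDescLib.Main

/-!
# Homomorphisms of twisting sheaves span on stalks
-/

set_option autoImplicit false
set_option linter.style.haveILetI false
set_option backward.isDefEq.respectTransparency.types false

noncomputable section

universe u

open CategoryTheory CategoryTheory.Limits AlgebraicGeometry TopologicalSpace Opposite
open GradedCechLib (Poly X_mem)
open ProjFormLib (ger ger_res ger_smul ger_map exists_ger)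

namespace DegenGenLib

variable (n : ℕ) (k : Type u) [Field k]

theorem hSpan_twist (p q : ℤ) (d : ℕ) (h : p + d = q) :
    HSpan (Twist.twistProjSpace n k p) (Twist.twistProjSpace n k q) := by
  intro y
  let 𝒜 := CohB1.polyGrading n k
  obtain ⟨j, hj⟩ : ∃ j : Fin (n + 1), (MvPolynomial.X j : Poly n k) ∉ y.asHomogeneousIdeal := by
    by_contra hne
    push_neg at hne
    refine y.not_irrelevant_le fun z hz => ?_
    have hspan : Ideal.span (Set.range (MvPolynomial.X : Fin (n + 1) → Poly n k)) ≤ y.asHomogeneousIdeal.toIdeal :=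
      Ideal.span_le.2 (by rintro _ ⟨i, rfl⟩; exact hne i)
    refine hspan ?_
    have hz' : (DirectSum.decompose 𝒜 z 0 : Poly n k) = 0 := hz
    have e : MvPolynomial.homogeneousComponent 0 z = 0 := by
      refine Eq.trans ?_ hz'
      exact (MvPolynomial.decomposition.decompose'_apply z 0).symm
    rw [MvPolynomial.homogeneousComponent_zero, MvPolynomial.C_eq_zero] at e
    show z ∈ MvPolynomial.idealOfVars (Fin (n + 1)) k
    rw [← pow_one (MvPolynomial.idealOfVars (Fin (n + 1)) k), MvPolynomial.mem_pow_idealOfVars_iff']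
    intro x hx
    rw [show x = 0 from (Finsupp.degree_eq_zero_iff x).1 (by omega)]
    exact e
  let D : (Proj 𝒜).Opens := Proj.basicOpen 𝒜 (MvPolynomial.X j)
  have hXD : ∀ x : D, (MvPolynomial.X j : Poly n k) ∉ x.1.asHomogeneousIdeal := fun x => x.2
  let g₀ := TwistLib.Unit'.ofPow (U := D) (X_mem n k j) (SetLike.GradedOne.one_mem (A := 𝒜)) (d := 1) rfl hXD
    (fun x hx => x.1.isPrime.ne_top ((Ideal.eq_top_iff_one _).mpr hx)) p
  let g : TwistLib.Unit' 𝒜 p D :=
    ⟨g₀.i, g₀.j, g₀.num, g₀.den, g₀.num_mem, g₀.den_mem, by have := g₀.deg; omega, g₀.num_nin, g₀.den_nin⟩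
  have hXd : (MvPolynomial.X j : Poly n k) ^ d ∈ 𝒜 d := by
    simpa only [smul_eq_mul, mul_one] using SetLike.pow_mem_graded d (X_mem n k j)
  let g' : TwistLib.Unit' 𝒜 q D :=
    ⟨d + g.i, g.j, MvPolynomial.X j ^ d * g.num, g.den, SetLike.mul_mem_graded hXd g.num_mem, g.den_mem,
      by have := g.deg; push_cast; omega,
      fun x hx => (x.1.isPrime.mem_or_mem hx).elim (fun h' => hXD x (x.1.isPrime.mem_of_pow_mem d h')) (g.num_nin x),
      g.den_nin⟩
  let φ : Twist.twistProjSpace n k p ⟶ Twist.twistProjSpace n k q := EulerPnLib.mulHomX ⟨_, hXd⟩ h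
  have hφ : φ.app D g.sec = g'.sec := TwistLib.sec_ext fun x => by
    refine (EulerPnLib.val_mulHomX ⟨_, hXd⟩ h g.sec x).trans ?_
    rw [TwistLib.Unit'.sec, TwistLib.Unit'.sec, TwistLib.val_fracSec, TwistLib.val_fracSec,
      ← Localization.mk_one_eq_algebraMap, Localization.mk_mul, one_mul]
  let P := CohB1.ProjSpace n k
  let Lp := Twist.twistProjSpace n k p
  let Lq := Twist.twistProjSpace n k q
  have hgen : ∀ {m : ℤ} (G : TwistLib.Unit' 𝒜 m D) (t : (DerSch.stalkFunctor P y).obj (Twist.twistProjSpace n k m)),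
      ∃ c : P.presheaf.stalk y, c • ger (Twist.twistProjSpace n k m) y (U := D) hj G.sec = t := by
    intro m G t
    obtain ⟨V, hyV, t, rfl⟩ := exists_ger _ y t
    obtain ⟨r, hr⟩ := (G.genOn (V ⊓ D) inf_le_right).2 (AmpleLib.res _ inf_le_left t)
    refine ⟨P.presheaf.germ (V ⊓ D) y ⟨hyV, hj⟩ r, ?_⟩
    rw [← ger_res (Twist.twistProjSpace n k m) (inf_le_right : V ⊓ D ≤ D) y ⟨hyV, hj⟩ G.sec, ← ger_smul]
    exact (congrArg (ger (Twist.twistProjSpace n k m) y (U := V ⊓ D) ⟨hyV, hj⟩) hr).trans (ger_res _ _ y _ t)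
  rw [eq_top_iff]
  rintro L -
  obtain ⟨c, hc⟩ := hgen g' (L (ger Lp y (U := D) hj g.sec))
  have hL : L = c • ((DerSch.stalkFunctor P y).map φ).hom := LinearMap.ext fun t => by
    obtain ⟨c', rfl⟩ := hgen g t
    rw [map_smul, map_smul, LinearMap.smul_apply, ger_map, hφ, hc]
  rw [hL]
  exact Submodule.smul_mem _ _ (Submodule.subset_span ⟨φ, rfl⟩)

theorem hasBases_twist (m : ℤ) : HasBases 1 (Twist.twistProjSpace n k m) :=
  hasBases_of_rank ((ParaFDescLib.invertible_iff_rankOne _).1 (PicPnLib.twist_inv n k m))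

end DegenGenLib

end
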