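import Groth.Agent.DegenGenLib.MaxRank
import Groth.Agent.DegenGenLib.Twist
import Groth.Agent.GenusZeroLib.PSpace
import Groth.Agent.GenusZeroLib.PSmooth
import Groth.Agent.ProjDegLib.Criterion
import Groth.Agent.PnDualLib.Master
import Groth.Agent.PerfLib.Strict
import Groth.Agent.PicPnLib.Twist

/-!
# The general Gaeta map on the plane
-/

set_option autoImplicit false
set_option linter.style.haveILetI false
set_option backward.isDefEq.respectTransparency false
set_option backward.isDefEq.respectTransparency.types false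

noncomputable section

universe u

open CategoryTheory CategoryTheory.Limits AlgebraicGeometry TopologicalSpace Opposite

namespace DegenGenLib

variable {X : Scheme.{u}}

theorem HSpan.of_iso_right {E F F' : X.Modules} (i : F ≅ F') (h : HSpan E F) : HSpan E F' :=
  HSpan.sum_right (ι := Unit) (Fi := fun _ => F) (fun _ => i.hom) (fun _ => i.inv) (by simp) fun _ => h

variable (k : Type u) [Field k] (a₁ a₂ a₃ : ℕ)

/-- The source of a Gaeta map. -/
abbrev gA : (CohB1.ProjSpace 2 k).Modules := ∐ fun _ : Fin a₁ => Twist.twistProjSpace 2 k (-2)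

/-- The target of a Gaeta map. -/
abbrev gB : (CohB1.ProjSpace 2 k).Modules :=
  (∐ fun _ : Fin a₂ => Twist.twistProjSpace 2 k (-1)) ⊞ (∐ fun _ : Fin a₃ => Coh.structureModule (CohB1.ProjSpace 2 k))

theorem isIntegral_plane : IsIntegral (CohB1.ProjSpace 2 k) := GenusZeroLib.isIntegral_projSpace k 2

theorem smooth_plane : Smooth ((CohB1.ProjSpace 2 k) ↘ Spec (CommRingCat.of k)) := GenusZeroLib.smooth_toSpec 2 k

theorem isProper_plane : IsProper ((CohB1.ProjSpace 2 k) ↘ Spec (CommRingCat.of k)) :=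
  ProjDegLib.toSpec_isProper k 2

theorem dim_plane : topologicalKrullDim ↥(CohB1.ProjSpace 2 k) = ((2 : ℕ) : WithBot ℕ∞) :=
  GenusZeroLib.dim_projSpace k 2

theorem isFinLocFree_gA : FlatMod.IsFinLocFree (gA k a₁) := PnDualLib.isFinLocFree_sum k 2 _ _

theorem isFinLocFree_freeMod' (b : ℕ) :
    FlatMod.IsFinLocFree (FlatMod.freeMod (CohB1.ProjSpace 2 k) b) :=
  SeesawLib.isFinLocFree_of_rank (VBResLib.rank_freeMod b)

theorem isFinLocFree_gB : FlatMod.IsFinLocFree (gB k a₂ a₃) :=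
  Groth.Agent.PerfLib.isFinLocFree_biprod (PnDualLib.isFinLocFree_sum k 2 _ _) (isFinLocFree_freeMod' k a₃)

theorem hasBases_structure : HasBases 1 (Coh.structureModule (CohB1.ProjSpace 2 k)) :=
  hasBases_of_rank ((ParaFDescLib.invertible_iff_rankOne _).1
    CurvLib.isInvertible_structureModule)

theorem hasBases_gA : HasBases a₁ (gA k a₁) := hasBases_coprod (hasBases_twist 2 k _)

theorem hasBases_gB : HasBases (a₂ + a₃) (gB k a₂ a₃) :=
  hasBases_biprod (hasBases_coprod (hasBases_twist 2 k _)) (hasBases_coprod (hasBases_structure k))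

theorem hSpan_gaeta : HSpan (gA k a₁) (gB k a₂ a₃) :=
  HSpan.coprod_left (HSpan.biprod_right (HSpan.coprod_right (hSpan_twist 2 k (-2) (-1) 1 (by norm_num)))
    (HSpan.coprod_right (HSpan.of_iso_right (PicPnLib.twist_zero 2 k).some (hSpan_twist 2 k (-2) 0 2 (by norm_num)))))

theorem isCoh_gA : Coh.IsCoh (gA k a₁) := LocSuppLib.isCoh_of_isFinLocFree (isFinLocFree_gA k a₁)

theorem isCoh_gB : Coh.IsCoh (gB k a₂ a₃) := LocSuppLib.isCoh_of_isFinLocFree (isFinLocFree_gB k a₂ a₃)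

theorem isFT_gB : CohB1.IsFT (gB k a₂ a₃) :=
  RefHullLib.isFT_of_isFP
    ((Groth.Agent.S9805.result _ _ (isCoh_gB k a₂ a₃).1).2 (isFinLocFree_gB k a₂ a₃) |>.2)

/-- A general Gaeta map has the expected degeneracy. -/
theorem exists_rankGood_gaeta [IsAlgClosed k] [CharZero k] :
    ∃ (m : ℕ) (c : (gA k a₁ ⟶ gB k a₂ a₃) ≃ₗ[k] (Fin m → k)) (p : MvPolynomial (Fin m) k), p ≠ 0 ∧
      ∀ φ : gA k a₁ ⟶ gB k a₂ a₃, MvPolynomial.eval (c φ) p ≠ 0 → RankGood 2 a₁ (a₂ + a₃) φ := by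
  haveI := isIntegral_plane k
  haveI := smooth_plane k
  haveI := isProper_plane k
  exact exists_rankGood k 2 (dim_plane k) (isFinLocFree_gA k a₁) (isFinLocFree_gB k a₂ a₃) (hasBases_gA k a₁)
    (hasBases_gB k a₂ a₃) (hSpan_gaeta k a₁ a₂ a₃)

theorem mono_gaeta (h : a₁ ≤ a₂ + a₃) (φ : gA k a₁ ⟶ gB k a₂ a₃) (hφ : RankGood 2 a₁ (a₂ + a₃) φ) : Mono φ := by
  haveI := isIntegral_plane k
  haveI := smooth_plane k
  haveI := (isCoh_gA k a₁).1
  haveI := (isCoh_gB k a₂ a₃).1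
  refine mono_of_ne_bot (e := a₁) (f := a₂ + a₃) φ fun x => ?_
  obtain ⟨U, hx, bE, bF, hne⟩ := ne_bot_of_rankGood k (dim_plane k) hφ x
  rw [Nat.min_eq_left h] at hne
  exact ⟨U, hx, bE, bF, hne⟩

theorem locFree_cokernel_gaeta (h : a₁ + 2 ≤ a₂ + a₃) (φ : gA k a₁ ⟶ gB k a₂ a₃)
    (hφ : RankGood 2 a₁ (a₂ + a₃) φ) : FlatMod.IsFinLocFreeOfRank (a₂ + a₃ - a₁) (cokernel φ) := by
  refine locFree_cokernel_of_eq_top (by omega) (isCoh_gA k a₁).1 (isCoh_gB k a₂ a₃).1 (isFT_gB k a₂ a₃) φ fun x => ?_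
  obtain ⟨U, hx, bE, bF, htop⟩ := eq_top_of_rankGood hφ (by omega) x
  rw [Nat.min_eq_left (by omega)] at htop
  exact ⟨U, hx, bE, bF, htop⟩

end DegenGenLib

end
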