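import Groth.Agent.DegenGenLib.Gaeta

/-!
# Global generation of the cokernel of a general Gaeta map
-/

set_option autoImplicit false
set_option linter.style.haveILetI false
set_option backward.isDefEq.respectTransparency false
set_option backward.isDefEq.respectTransparency.types false

noncomputable section

universe u

open CategoryTheory CategoryTheory.Limits AlgebraicGeometry TopologicalSpace Opposite

namespace DegenGenLib

/-- A polynomial condition pulled back along a surjective linear map. -/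
theorem exists_pullback_poly (k : Type*) [Field k] [Infinite k] {m m' : ℕ} (T : (Fin m → k) →ₗ[k] (Fin m' → k))
    (hT : Function.Surjective T) (p : MvPolynomial (Fin m') k) (hp : p ≠ 0) :
    ∃ q : MvPolynomial (Fin m) k, q ≠ 0 ∧ ∀ d, MvPolynomial.eval d q = MvPolynomial.eval (T d) p := by
  classical
  let q := MvPolynomial.aeval (R := k)
    (fun i => ∑ v, MvPolynomial.C (T (Pi.single v 1) i) * (MvPolynomial.X v : MvPolynomial (Fin m) k)) p
  have hq : ∀ d, MvPolynomial.eval d q = MvPolynomial.eval (T d) p := by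
    intro d
    show MvPolynomial.aeval d q = MvPolynomial.aeval (T d) p
    rw [← AlgHom.comp_apply, MvPolynomial.comp_aeval]
    refine congrArg (fun g => MvPolynomial.aeval g p) (funext fun i => ?_)
    conv_rhs => rw [← Finset.univ_sum_single d, map_sum, Finset.sum_apply]
    simp only [map_sum, map_mul, MvPolynomial.aeval_C, MvPolynomial.aeval_X, Algebra.algebraMap_self, RingHom.id_apply]
    refine Finset.sum_congr rfl fun v _ => ?_
    rw [show Pi.single v (d v) = d v • Pi.single v (1 : k) by rw [← Pi.single_smul, smul_eq_mul, mul_one],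
      map_smul, Pi.smul_apply, smul_eq_mul, mul_comm]
  refine ⟨q, fun h => hp (MvPolynomial.funext fun x => ?_), hq⟩
  obtain ⟨d, rfl⟩ := hT x
  rw [← hq, h, map_zero, map_zero]

variable (k : Type u) [Field k] [IsAlgClosed k] [CharZero k] (a₁ a₂ a₃ : ℕ)

theorem epi_component (h : a₂ + 2 ≤ a₁) (ψ : gA k a₁ ⟶ ∐ fun _ : Fin a₂ => Twist.twistProjSpace 2 k (-1))
    (hψ : RankGood 2 a₁ a₂ ψ) : Epi ψ := by
  refine epi_of_eq_top (e := a₁) (f := a₂) (isCoh_gA k a₁).1 ?_ ?_ ψ fun x => ?_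
  · exact (LocSuppLib.isCoh_of_isFinLocFree (PnDualLib.isFinLocFree_sum k 2 _ _)).1
  · exact RefHullLib.isFT_of_isFP ((Groth.Agent.S9805.result _ _
      (LocSuppLib.isCoh_of_isFinLocFree (PnDualLib.isFinLocFree_sum k 2 _ _)).1).2
      (PnDualLib.isFinLocFree_sum k 2 _ _) |>.2)
  · obtain ⟨U, hx, bE, bF, htop⟩ := eq_top_of_rankGood hψ (by omega) x
    rw [Nat.min_eq_right (by omega)] at htop
    exact ⟨U, hx, bE, bF, htop⟩

theorem exists_good_component (h : a₂ + 2 ≤ a₁) :
    ∃ (m : ℕ) (c : (gA k a₁ ⟶ gB k a₂ a₃) ≃ₗ[k] (Fin m → k)) (p : MvPolynomial (Fin m) k), p ≠ 0 ∧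
      ∀ φ : gA k a₁ ⟶ gB k a₂ a₃, MvPolynomial.eval (c φ) p ≠ 0 →
        RankGood 2 a₁ (a₂ + a₃) φ ∧ Epi (φ ≫ biprod.fst) := by
  obtain ⟨m, c, p, hp, hP⟩ := exists_rankGood_gaeta k a₁ a₂ a₃
  haveI := isIntegral_plane k
  haveI := smooth_plane k
  haveI := isProper_plane k
  obtain ⟨m', c', p', hp', hP'⟩ := exists_rankGood k 2 (dim_plane k) (isFinLocFree_gA k a₁)
    (PnDualLib.isFinLocFree_sum k 2 (-1) a₂) (hasBases_gA k a₁) (hasBases_coprod (hasBases_twist 2 k _))
    (HSpan.coprod_left (HSpan.coprod_right (hSpan_twist 2 k (-2) (-1) 1 (by norm_num))))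
  let L : (gA k a₁ ⟶ gB k a₂ a₃) →ₗ[k] (gA k a₁ ⟶ ∐ fun _ : Fin a₂ => Twist.twistProjSpace 2 k (-1)) :=
    CategoryTheory.Linear.rightComp k _ biprod.fst
  let T : (Fin m → k) →ₗ[k] (Fin m' → k) := c'.toLinearMap ∘ₗ L ∘ₗ c.symm.toLinearMap
  have hT : Function.Surjective T := fun y => ⟨c (c'.symm y ≫ biprod.inl), by simp [T, L]⟩
  obtain ⟨q, hq, hqe⟩ := exists_pullback_poly k T hT p' hp'
  refine ⟨m, c, p * q, mul_ne_zero hp hq, fun φ hφ => ?_⟩
  rw [map_mul, mul_ne_zero_iff, hqe] at hφ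
  refine ⟨hP φ hφ.1, epi_component k a₁ a₂ h _ (hP' _ ?_)⟩
  simpa [T, L] using hφ.2

theorem globallyGenerated_cokernel {φ : gA k a₁ ⟶ gB k a₂ a₃} (h : Epi (φ ≫ biprod.fst)) :
    Curv2.IsGloballyGenerated (cokernel φ) := by
  let P := CohB1.ProjSpace 2 k
  let r : (SheafOfModules.free (ULift.{u} (Fin a₃)) : P.Modules) ⟶ (∐ fun _ : Fin a₃ => Coh.structureModule P) :=
    Sigma.desc fun i => Sigma.ι (fun _ : Fin a₃ => Coh.structureModule P) i.down
  haveI : Epi r := ⟨fun g g' hg => Sigma.hom_ext _ _ fun j => by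
    have := congrArg (fun t => Sigma.ι (fun _ : ULift.{u} (Fin a₃) => Coh.structureModule P) ⟨j⟩ ≫ t) hg
    simpa [r] using this⟩
  haveI : Epi (biprod.inr ≫ cokernel.π φ) := by
    refine Preadditive.epi_of_cancel_zero _ fun {G} g hg => ?_
    rw [Category.assoc] at hg
    have h1 : cokernel.π φ ≫ g = biprod.fst ≫ biprod.inl ≫ cokernel.π φ ≫ g := by
      conv_lhs => rw [← Category.id_comp (cokernel.π φ ≫ g), ← biprod.total, Preadditive.add_comp, Category.assoc,
        Category.assoc, hg, comp_zero, add_zero]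
    have h2 : (φ ≫ biprod.fst) ≫ biprod.inl ≫ cokernel.π φ ≫ g = 0 := by
      rw [Category.assoc, ← h1, cokernel.condition_assoc, zero_comp]
    rw [← cancel_epi (cokernel.π φ), h1, (cancel_epi (φ ≫ biprod.fst)).1 (h2.trans comp_zero.symm), comp_zero,
      comp_zero]
  exact ⟨_, r ≫ biprod.inr ≫ cokernel.π φ, epi_comp r _⟩

end DegenGenLib

end
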