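import Groth.Agent.CohCmpLib.HomLift
import Groth.Agent.CohCmpLib.HomFrame
import Groth.Prelude.Def_Curv2
import Groth.Prelude.Def_KLin

/-!
# Global generation of the sheaf of homomorphisms, read on stalks
-/

set_option autoImplicit false
set_option backward.isDefEq.respectTransparency false
set_option backward.isDefEq.respectTransparency.types false

noncomputable section

universe u

open CategoryTheory CategoryTheory.Limits AlgebraicGeometry TopologicalSpace Opposite
open ProjFormLib (ger res ger_res ger_smul ger_add ger_map exists_ger section_ext IsFrame)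
open CohCmpLib (stk homMod secHom stalk_secHom evS evMod evS_evMod hVal curryMod)

namespace DegenGenLib

variable {X : Scheme.{u}}

/-- The stalk maps of the global homomorphisms span the homomorphisms of the stalks. -/
def HSpan (E F : X.Modules) : Prop :=
  ∀ y : X, Submodule.span (X.presheaf.stalk y)
    (Set.range fun φ : E ⟶ F => ((DerSch.stalkFunctor X y).map φ).hom) = ⊤

/-- The stalk maps of the global homomorphisms generate, when the sheaf of homomorphisms is globally generated. -/
theorem span_stalk_maps {E F : X.Modules} (hE : FlatMod.IsFinLocFree E) [DCoh.HasSheafHom E]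
    (hgg : Curv2.IsGloballyGenerated ((DCoh.sheafHom E).obj F)) (y : X) :
    Submodule.span (X.presheaf.stalk y)
      (Set.range fun φ : E ⟶ F => ((DerSch.stalkFunctor X y).map φ).hom) = ⊤ := by
  obtain ⟨ι, p, hp⟩ := hgg
  let g : (DCoh.sheafHom E).obj F ⟶ homMod E F := curryMod ((DCoh.sheafHomAdj E).counit.app F)
  haveI : IsIso g := CohCmpLib.isIso_of_homEv g (CohCmpLib.curryMod_comp _) (CohCmpLib.homEv_counit hE)
    (CohCmpLib.homEv_evMod hE)
  let q : (SheafOfModules.free ι : X.Modules) ⟶ homMod E F := p ≫ g
  haveI : Epi q := epi_comp p g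
  have hq : Function.Surjective ((DerSch.stalkFunctor X y).map q).hom := by
    rw [CohCmpLib.surjective_stalk_iff]
    exact ModuleCat.isZero_iff_subsingleton.mp
      ((KFlatLib.isZero_iff_forall_stalk _).mp (isZero_cokernel_of_epi q) y)
  let N : Submodule (X.presheaf.stalk y) (stk (homMod E F) y) :=
    Submodule.span _ (Set.range fun h : Γ(homMod E F, (⊤ : X.Opens)) => ger (homMod E F) y (U := ⊤) trivial h)
  have hN : N = ⊤ := by
    have hle : LinearMap.range ((DerSch.stalkFunctor X y).map q).hom ≤ N := by
      rw [← Submodule.ker_mkQ N, LinearMap.range_le_ker_iff]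
      have key : (DerSch.stalkFunctor X y).map q ≫ ModuleCat.ofHom N.mkQ = 0 := by
        refine (isColimitOfPreserves (DerSch.stalkFunctor X y)
          (coproductIsCoproduct fun _ : ι => (Coh.structureModule X : X.Modules))).hom_ext fun i => ?_
        rw [comp_zero]
        refine ModuleCat.hom_ext (LinearMap.ext fun a => ?_)
        obtain ⟨W, hW, s, rfl⟩ := exists_ger _ y a
        obtain ⟨i⟩ := i
        let c : Coh.structureModule X ⟶ homMod E F := Sigma.ι (fun _ : ι => (Coh.structureModule X : X.Modules)) i ≫ q
        let one : Γ(Coh.structureModule X, (⊤ : X.Opens)) := (1 : Γ(X, ⊤))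
        have h1 : s = (show Γ(X, W) from s) • res (Coh.structureModule X) le_top one := by
          change (show Γ(X, W) from s) = (show Γ(X, W) from s) * X.presheaf.map (homOfLE le_top).op (1 : Γ(X, ⊤))
          exact (mul_one (show Γ(X, W) from s)).symm.trans (congrArg _ (map_one (X.presheaf.map (homOfLE le_top).op).hom).symm)
        show N.mkQ (((DerSch.stalkFunctor X y).map q).hom
          (((DerSch.stalkFunctor X y).map (Sigma.ι (fun _ : ι => (Coh.structureModule X : X.Modules)) i)).hom
            (ger (Coh.structureModule X) y hW s))) = 0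
        refine (Submodule.Quotient.mk_eq_zero _).2 ?_
        rw [show ((DerSch.stalkFunctor X y).map q).hom
            (((DerSch.stalkFunctor X y).map (Sigma.ι (fun _ : ι => (Coh.structureModule X : X.Modules)) i)).hom
              (ger (Coh.structureModule X) y hW s)) =
            ((DerSch.stalkFunctor X y).map c).hom (ger (Coh.structureModule X) y hW s) by
          simp only [c, Functor.map_comp]; rfl]
        rw [h1, ger_smul, map_smul, ger_res, ger_map]
        exact N.smul_mem _ (Submodule.subset_span ⟨_, rfl⟩)
      exact congrArg ModuleCat.Hom.hom key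
    exact eq_top_iff.2 fun a _ => hle (hq a)
  let Φ := evS (evMod E F) y
  have hΦ : Function.Bijective Φ := CohCmpLib.homEv_evMod hE y
  rw [eq_top_iff, ← LinearMap.range_eq_top.2 hΦ.2, ← Submodule.map_top, ← hN, Submodule.map_span, Submodule.span_le]
  rintro _ ⟨_, ⟨h, rfl⟩, rfl⟩
  refine Submodule.subset_span ⟨secHom h, ?_⟩
  exact (stalk_secHom h y).trans (evS_evMod h y trivial).symm

end DegenGenLib

end
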