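import Groth.Agent.DegenGenLib.Coords
import Groth.Agent.DegenGenLib.Dim
import Groth.Agent.CurvLib.Euler
import Groth.Agent.SurfExtLib.LocGlob
import Groth.Agent.KleimanLib.BertiniGlobal
import Groth.Agent.KZeroSecLib.Main
import Groth.Agent.LocSuppLib.LocFree
import Groth.Agent.RefHullLib.EvalStalk
import Groth.Agent.QCohLib.FTCrit
import Groth.Agent.S9805
import Groth.Agent.SeesawLib.Pulled
import Mathlib.AlgebraicGeometry.Morphisms.Smooth

/-!
# The degeneracy locus of a general homomorphism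
-/

set_option autoImplicit false
set_option linter.style.haveILetI false
set_option backward.isDefEq.respectTransparency false
set_option backward.isDefEq.respectTransparency.types false

noncomputable section

universe u

open CategoryTheory CategoryTheory.Limits AlgebraicGeometry TopologicalSpace Opposite

namespace DegenGenLib

variable (k : Type u) [Field k] {X : Scheme.{u}} [X.Over (Spec (CommRingCat.of k))]

theorem finite_hom [IsProper (X ↘ Spec (CommRingCat.of k))] {E F : X.Modules} (hE : FlatMod.IsFinLocFree E)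
    (hF : FlatMod.IsFinLocFree F) : Module.Finite k (E ⟶ F) := by
  haveI := CurvLib.finite_HH (k := k) (LocSuppLib.isCoh_of_isFinLocFree (CohCmpLib.isFinLocFree_homMod hE hF)) 0
  exact Module.Finite.equiv (SurfExtLib.secEquiv (k := k) E F).symm

/-- An affine open of an integral scheme of finite type over a field has the dimension of the scheme. -/
theorem dim_affine [IsIntegral X] [LocallyOfFiniteType (X ↘ Spec (CommRingCat.of k))] (n : ℕ)
    (hdim : topologicalKrullDim X = n) {U : X.Opens} (hU : IsAffineOpen U) {x : X} (hx : x ∈ U) :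
    ringKrullDim Γ(X, U) = n := by
  haveI : Nonempty U := ⟨⟨x, hx⟩⟩
  haveI : IsDomain Γ(X, U) := inferInstance
  haveI : IrreducibleSpace (Spec Γ(X, U) : Scheme.{u}) := PrimeSpectrum.irreducibleSpace
  let w : (Spec Γ(X, U) : Scheme.{u}) := hU.primeIdealOf ⟨x, hx⟩
  have h := FibDimLib.localDim_eq_of_isOpenEmbedding hU.fromSpec.isOpenEmbedding w
  rw [FibDimLib.localDim_of_irreducible (X ↘ Spec (CommRingCat.of k)),
    FibDimLib.localDim_of_irreducible (hU.fromSpec ≫ (X ↘ Spec (CommRingCat.of k))) w, hdim] at h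
  exact (h.trans (PrimeSpectrum.topologicalKrullDim_eq_ringKrullDim Γ(X, U))).symm

variable {E F : X.Modules} {e f r m : ℕ}

set_option maxHeartbeats 1000000 in
theorem exists_chart_point (hE : FlatMod.IsFinLocFreeOfRank e E) (hF : FlatMod.IsFinLocFreeOfRank f F)
    (hrf : r < f) {U : X.Opens} (hU : IsAffineOpen U) (bE : Module.Basis (Fin e) Γ(X, U) Γ(E, U))
    (bF : Module.Basis (Fin f) Γ(X, U) Γ(F, U)) (φ : E ⟶ F)
    (W : (Fitt.sheafIdeal (cokernel φ) (f - r - 1)).subscheme.Opens)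
    (hW : W = (Fitt.sheafIdeal (cokernel φ) (f - r - 1)).subschemeι ⁻¹ᵁ
      ((Fitt.sheafIdeal (cokernel φ) (f - r)).support : TopologicalSpace.Closeds X).compl)
    (z : ↥W) (hzU : (Fitt.sheafIdeal (cokernel φ) (f - r - 1)).subschemeι z.1 ∈ U) :
    letI := BertiniJetLib.algOn (X ↘ Spec (CommRingCat.of k)) U
    ∃ (R : Fin r → Fin f) (C : Fin r → Fin e) (g : Spec (CommRingCat.of (Chart (mat bE bF φ) R C)) ⟶ W.toScheme),
      IsOpenImmersion g ∧ z ∈ Set.range g.base ∧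
      g ≫ W.ι ≫ (Fitt.sheafIdeal (cokernel φ) (f - r - 1)).subschemeι ≫ (X ↘ Spec (CommRingCat.of k)) =
        Spec.map (CommRingCat.ofHom (algebraMap k (Chart (mat bE bF φ) R C))) := by
  letI := BertiniJetLib.algOn (X ↘ Spec (CommRingCat.of k)) U
  let q : X ⟶ Spec (CommRingCat.of k) := X ↘ Spec (CommRingCat.of k)
  have hEq : Coh.IsQCoh E := (LocSuppLib.isCoh_of_isFinLocFree (SeesawLib.isFinLocFree_of_rank hE)).1
  have hFq : Coh.IsQCoh F := (LocSuppLib.isCoh_of_isFinLocFree (SeesawLib.isFinLocFree_of_rank hF)).1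
  haveI := hEq; haveI := hFq
  haveI := QCohLib.isQCoh_cokernel φ
  have hFft : CohB1.IsFT F := RefHullLib.isFT_of_isFP
    ((Groth.Agent.S9805.result X F hFq).2 (SeesawLib.isFinLocFree_of_rank hF) |>.2)
  have hft : CohB1.IsFT (cokernel φ) := QCohLib.isFT_of_epi (cokernel.π φ) hFft
  let D := Fitt.sheafIdeal (cokernel φ) (f - r - 1)
  let M := mat bE bF φ
  have hD : D.ideal ⟨U, hU⟩ = J M (r + 1) := by
    rw [FittLib.sheafIdeal_ideal _ hft, fitt_cokernel bE bF hU φ, show f - (f - r - 1) = r + 1 by omega]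
  have hsupp : ∀ (x : X) (hx : x ∈ U), x ∈ (Fitt.sheafIdeal (cokernel φ) (f - r)).support ↔
      J M r ≤ (hU.primeIdealOf ⟨x, hx⟩).asIdeal := fun x hx => by
    rw [FittLib.mem_support_iff _ hft _ hU hx, fitt_cokernel bE bF hU φ, show f - (f - r) = r by omega]
  let cov := D.subschemeCover.f ⟨U, hU⟩
  have hcov : cov ≫ D.subschemeι =
      Spec.map (CommRingCat.ofHom (Ideal.Quotient.mk (D.ideal ⟨U, hU⟩))) ≫ hU.fromSpec := by
    rw [D.subschemeCover_map_subschemeι ⟨U, hU⟩]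
    rfl
  have hprime : ∀ (v : PrimeSpectrum (Γ(X, U) ⧸ D.ideal ⟨U, hU⟩)), ∃ hx : D.subschemeι (cov v) ∈ U,
      (hU.primeIdealOf ⟨D.subschemeι (cov v), hx⟩).asIdeal = v.asIdeal.comap (Ideal.Quotient.mk _) := by
    intro v
    have h : D.subschemeι (cov v) = hU.fromSpec (PrimeSpectrum.comap (Ideal.Quotient.mk (D.ideal ⟨U, hU⟩)) v) :=
      congr($(hcov).base v)
    have hx : D.subschemeι (cov v) ∈ U := hU.range_fromSpec.subset ⟨_, h.symm⟩
    refine ⟨hx, ?_⟩
    have := hU.fromSpec.isOpenEmbedding.injective ((hU.fromSpec_primeIdealOf ⟨_, hx⟩).trans h)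
    exact congrArg PrimeSpectrum.asIdeal this
  obtain ⟨v, hv⟩ : z.1 ∈ cov.opensRange := by
    rw [D.opensRange_subschemeCover_map ⟨U, hU⟩]
    exact hzU
  obtain ⟨hxv, hpv⟩ := hprime v
  obtain ⟨R, C, hRC⟩ : ∃ (R : Fin r → Fin f) (C : Fin r → Fin e),
      Ideal.Quotient.mk (D.ideal ⟨U, hU⟩) (M.submatrix R C).det ∉ v.asIdeal := by
    by_contra hne
    push_neg at hne
    have hz2 : D.subschemeι z.1 ∉ (Fitt.sheafIdeal (cokernel φ) (f - r)).support :=
      (hW.le z.2 :)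
    refine hz2 ?_
    rw [← hv]
    refine (hsupp _ hxv).2 (Ideal.span_le.2 ?_)
    rintro _ ⟨⟨R, C⟩, rfl⟩
    exact hpv.ge (hne R C)
  let δ := Ideal.Quotient.mk (J M (r + 1)) (M.submatrix R C).det
  let eq' : (Γ(X, U) ⧸ D.ideal ⟨U, hU⟩) ≃+* (Γ(X, U) ⧸ J M (r + 1)) := Ideal.quotEquivOfEq hD
  let j₁ : Spec (CommRingCat.of (Chart M R C)) ⟶ Spec (CommRingCat.of (Γ(X, U) ⧸ J M (r + 1))) :=
    Spec.map (CommRingCat.ofHom (algebraMap (Γ(X, U) ⧸ J M (r + 1)) (Chart M R C)))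
  haveI : IsOpenImmersion j₁ := IsOpenImmersion.of_isLocalization δ
  let j₂ : Spec (CommRingCat.of (Γ(X, U) ⧸ J M (r + 1))) ⟶ Spec (CommRingCat.of (Γ(X, U) ⧸ D.ideal ⟨U, hU⟩)) :=
    Spec.map eq'.toCommRingCatIso.hom
  let g₀ : Spec (CommRingCat.of (Chart M R C)) ⟶ D.subscheme := (j₁ ≫ j₂) ≫ cov
  have hr : Set.range g₀.base ⊆ Set.range W.ι.base := by
    rw [Scheme.Opens.range_ι]
    rintro _ ⟨w, rfl⟩
    rw [hW]
    show D.subschemeι (cov ((j₁ ≫ j₂) w)) ∈ ((Fitt.sheafIdeal (cokernel φ) (f - r)).support : TopologicalSpace.Closeds X).compl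
    obtain ⟨hx, hp⟩ := hprime ((j₁ ≫ j₂) w)
    intro hmem
    have h := ((hsupp _ hx).1 hmem) (det_mem_J M R C)
    rw [hp] at h
    exact w.isPrime.ne_top (Ideal.eq_top_of_isUnit_mem _ h (IsLocalization.Away.algebraMap_isUnit δ))
  let g := IsOpenImmersion.lift W.ι g₀ hr
  have hfac : g ≫ W.ι = g₀ := IsOpenImmersion.lift_fac _ _ _
  refine ⟨R, C, g, ?_, ?_, ?_⟩
  · haveI : IsOpenImmersion (g ≫ W.ι) := hfac ▸ inferInstanceAs (IsOpenImmersion ((j₁ ≫ j₂) ≫ cov))
    exact IsOpenImmersion.of_comp g W.ι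
  · let v' : PrimeSpectrum (Γ(X, U) ⧸ J M (r + 1)) := PrimeSpectrum.comap eq'.symm.toRingHom v
    have hv' : δ ∉ v'.asIdeal := by
      show eq'.symm δ ∉ v.asIdeal
      exact hRC
    obtain ⟨w, hw⟩ : v' ∈ Set.range (PrimeSpectrum.comap (algebraMap (Γ(X, U) ⧸ J M (r + 1)) (Chart M R C))) := by
      rw [PrimeSpectrum.localization_away_comap_range (Chart M R C) δ]
      exact hv'
    refine ⟨w, Subtype.ext ?_⟩
    have h1 : W.ι (g w) = g₀ w := congr($(hfac).base w)
    refine h1.trans (Eq.trans ?_ hv)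
    refine congrArg (fun t => cov t) ?_
    show PrimeSpectrum.comap eq'.toRingHom (PrimeSpectrum.comap (algebraMap _ (Chart M R C)) w) = v
    rw [hw]
    refine PrimeSpectrum.ext ?_
    show (v.asIdeal.comap eq'.symm.toRingHom).comap eq'.toRingHom = v.asIdeal
    rw [Ideal.comap_comap, eq'.symm_toRingHom_comp_toRingHom, Ideal.comap_id]
  · rw [← Category.assoc, hfac]
    show ((j₁ ≫ j₂) ≫ cov) ≫ D.subschemeι ≫ q = _
    simp only [Category.assoc]
    rw [← Category.assoc cov, hcov, Category.assoc, KleimanLib.fromSpec_comp q hU, ← Spec.map_comp,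
      ← Spec.map_comp, ← Spec.map_comp]
    rfl

set_option maxHeartbeats 1000000 in
theorem main [IsAlgClosed k] [CharZero k] [IsIntegral X] [Smooth (X ↘ Spec (CommRingCat.of k))]
    [IsProper (X ↘ Spec (CommRingCat.of k))] (n : ℕ) (hdim : topologicalKrullDim X = n)
    (hE : FlatMod.IsFinLocFreeOfRank e E) (hF : FlatMod.IsFinLocFreeOfRank f F) [DCoh.HasSheafHom E]
    (hgg : Curv2.IsGloballyGenerated ((DCoh.sheafHom E).obj F)) (hrf : r < f) :
    ∃ (m : ℕ) (c : (E ⟶ F) ≃ₗ[k] (Fin m → k)) (p : MvPolynomial (Fin m) k), p ≠ 0 ∧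
      ∀ φ : E ⟶ F, MvPolynomial.eval (c φ) p ≠ 0 →
        letI D := Fitt.sheafIdeal (cokernel φ) (f - r - 1)
        letI W : D.subscheme.Opens :=
          D.subschemeι ⁻¹ᵁ ((Fitt.sheafIdeal (cokernel φ) (f - r)).support : TopologicalSpace.Closeds X).compl
        Smooth (W.ι ≫ D.subschemeι ≫ (X ↘ Spec (CommRingCat.of k))) ∧
          (IsEmpty W ∨ ((e - r) * (f - r) ≤ n ∧
            ∀ Z ∈ irreducibleComponents (W : Type u),
              topologicalKrullDim Z = ((n - (e - r) * (f - r) : ℕ) : WithBot ℕ∞))) := by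
  classical
  have hE' := SeesawLib.isFinLocFree_of_rank hE
  have hF' := SeesawLib.isFinLocFree_of_rank hF
  haveI := (LocSuppLib.isCoh_of_isFinLocFree hE').1
  haveI := (LocSuppLib.isCoh_of_isFinLocFree hF').1
  haveI := finite_hom k hE' hF'
  let q : X ⟶ Spec (CommRingCat.of k) := X ↘ Spec (CommRingCat.of k)
  haveI : CompactSpace X := QuasiCompact.compactSpace_of_compactSpace q
  let b := Module.finBasis k (E ⟶ F)
  let c := b.equivFun
  let m := Module.finrank k (E ⟶ F)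
  have hb : ∀ φ : E ⟶ F, ∃ d : Fin m → k, φ = ∑ v, d v • b v := fun φ => ⟨c φ, (b.sum_equivFun φ).symm⟩
  have hcov : ∀ x : X, ∃ (U : X.affineOpens), x ∈ U.1 ∧ Nonempty (Module.Basis (Fin e) Γ(X, U.1) Γ(E, U.1)) ∧
      Nonempty (Module.Basis (Fin f) Γ(X, U.1) Γ(F, U.1)) := by
    intro x
    obtain ⟨O₁, h1, f1⟩ := KZeroSecLib.exists_basis_nhd hE x
    obtain ⟨O₂, h2, f2⟩ := KZeroSecLib.exists_basis_nhd hF x
    obtain ⟨U, hU, hxU, hle⟩ := exists_isAffineOpen_mem_and_subset (U := O₁ ⊓ O₂) (x := x) ⟨h1, h2⟩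
    exact ⟨⟨U, hU⟩, hxU, f1 ⟨U, hU⟩ fun y hy => (hle hy).1, f2 ⟨U, hU⟩ fun y hy => (hle hy).2⟩
  choose U hxU hbE hbF using hcov
  let bE := fun x => (hbE x).some
  let bF := fun x => (hbF x).some
  obtain ⟨t, ht⟩ := isCompact_univ.elim_finite_subcover (fun x : X => ((U x).1 : Set X)) (fun x => (U x).1.2)
    (fun x _ => Set.mem_iUnion_of_mem x (hxU x))
  have key : ∀ (x : X) (R : Fin r → Fin f) (C : Fin r → Fin e),
      letI := BertiniJetLib.algOn (X ↘ Spec (CommRingCat.of k)) (U x).1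
      ∃ p : MvPolynomial (Fin m) k, p ≠ 0 ∧ ∀ d : Fin m → k, MvPolynomial.eval d p ≠ 0 →
        Algebra.Smooth k (Chart (comb (fun v => mat (bE x) (bF x) (b v)) d) R C) ∧
        ∀ q : Ideal (Chart (comb (fun v => mat (bE x) (bF x) (b v)) d) R C), q.IsMaximal →
          q.height + (((f - r) * (e - r) : ℕ) : ℕ∞) = (n : ℕ∞) := by
    intro x R C
    letI := BertiniJetLib.algOn (X ↘ Spec (CommRingCat.of k)) (U x).1
    haveI := BertiniJetLib.smooth_algOn q (U x)
    haveI : Nonempty (U x).1 := ⟨⟨x, hxU x⟩⟩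
    exact exists_good n (dim_affine k n hdim (U x).2 (hxU x)) _ R C Set.univ
      (spans_mat (bE x) (bF x) (U x).2 (span_stalk_maps hE' hgg) b hb) fun _ _ _ _ => Set.mem_univ _
  choose p hp0 hp using key
  refine ⟨m, c, ∏ x ∈ t, ∏ R, ∏ C, p x R C, ?_, fun φ hφ => ?_⟩
  · exact Finset.prod_ne_zero_iff.2 fun x _ => Finset.prod_ne_zero_iff.2 fun R _ =>
      Finset.prod_ne_zero_iff.2 fun C _ => hp0 x R C
  let D := Fitt.sheafIdeal (cokernel φ) (f - r - 1)
  let W : D.subscheme.Opens :=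
    D.subschemeι ⁻¹ᵁ ((Fitt.sheafIdeal (cokernel φ) (f - r)).support : TopologicalSpace.Closeds X).compl
  let qW : W.toScheme ⟶ Spec (CommRingCat.of k) := W.ι ≫ D.subschemeι ≫ q
  have charts : ∀ z : ↥W, ∃ (A : Type u) (_ : CommRing A) (_ : Algebra k A)
      (g : Spec (CommRingCat.of A) ⟶ W.toScheme), IsOpenImmersion g ∧ z ∈ Set.range g.base ∧
        g ≫ qW = Spec.map (CommRingCat.ofHom (algebraMap k A)) ∧ Algebra.Smooth k A ∧
        ∀ Q : Ideal A, Q.IsMaximal → Q.height + (((f - r) * (e - r) : ℕ) : ℕ∞) = (n : ℕ∞) := by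
    intro z
    obtain ⟨x, hxt, hx⟩ := Set.mem_iUnion₂.1 (ht (Set.mem_univ (D.subschemeι z.1)))
    letI := BertiniJetLib.algOn (X ↘ Spec (CommRingCat.of k)) (U x).1
    obtain ⟨R, C, g, hg, hzg, hcomp⟩ :=
      exists_chart_point k hE hF hrf (U x).2 (bE x) (bF x) φ W rfl z hx
    have hM : mat (bE x) (bF x) φ = comb (fun v => mat (bE x) (bF x) (b v)) (c φ) := by
      conv_lhs => rw [(b.sum_equivFun φ).symm]
      exact mat_sum (bE x) (bF x) b (c φ)
    have hne : MvPolynomial.eval (c φ) (p x R C) ≠ 0 := fun h => hφ (by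
      rw [map_prod]
      refine Finset.prod_eq_zero hxt ?_
      rw [map_prod]
      refine Finset.prod_eq_zero (Finset.mem_univ R) ?_
      rw [map_prod]
      exact Finset.prod_eq_zero (Finset.mem_univ C) h)
    have hgood : Algebra.Smooth k (Chart (mat (bE x) (bF x) φ) R C) ∧
        ∀ Q : Ideal (Chart (mat (bE x) (bF x) φ) R C), Q.IsMaximal →
          Q.height + (((f - r) * (e - r) : ℕ) : ℕ∞) = (n : ℕ∞) := by
      rw [hM]
      exact hp x R C (c φ) hne
    exact ⟨_, _, _, g, hg, hzg, hcomp, hgood.1, hgood.2⟩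
  choose A instC instA g hg hzg hgq hsm hht using charts
  have hsmW : Smooth qW := by
    let cv : W.toScheme.OpenCover := Scheme.Cover.mkOfCovers ↥W (fun z => Spec (CommRingCat.of (A z))) g
      (fun z => ⟨z, hzg z⟩) hg
    refine (IsZariskiLocalAtSource.iff_of_openCover (P := @Smooth) cv).mpr fun z => ?_
    show Smooth (g z ≫ qW)
    rw [hgq, HasRingHomProperty.Spec_iff (P := @Smooth)]
    exact RingHom.smooth_algebraMap.mpr (hsm z)
  refine ⟨hsmW, (isEmpty_or_nonempty ↥W).imp_right fun ⟨z₀⟩ => ?_⟩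
  obtain ⟨w₀, -⟩ := hzg z₀
  haveI : Nontrivial (A z₀) := PrimeSpectrum.nonempty_iff_nontrivial.1 ⟨w₀⟩
  obtain ⟨Q₀, hQ₀⟩ := Ideal.exists_maximal (A z₀)
  have hle : (f - r) * (e - r) ≤ n := by
    have := hht z₀ Q₀ hQ₀
    exact Nat.cast_le.1 (le_trans le_add_self this.le)
  have hd : ∀ z : ↥W, ∀ Q : Ideal (A z), Q.IsMaximal → Q.height = ((n - (f - r) * (e - r) : ℕ) : ℕ∞) := by
    intro z Q hQ
    refine WithTop.add_right_cancel (ENat.natCast_ne_top ((f - r) * (e - r))) ?_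
    exact (hht z Q hQ).trans (by rw [← Nat.cast_add, Nat.sub_add_cancel hle])
  rw [Nat.mul_comm (e - r)]
  refine ⟨hle, fun Z hZ => ?_⟩
  haveI : LocallyOfFiniteType qW := by haveI := hsmW; infer_instance
  obtain ⟨z, -, hzd⟩ := FibDimLib.exists_generic_of_component qW hZ
  rw [← hzd]
  obtain ⟨w, hw⟩ := hzg z
  haveI := hg z
  haveI := hsm z
  have hloc := FibDimLib.localDim_eq_of_isOpenEmbedding (g z).isOpenEmbedding w
  rw [hw] at hloc
  exact hloc.trans (localDim_eq_of_height k _ (hd z) w)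

end DegenGenLib

end
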