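import Mathlib.LinearAlgebra.Matrix.SchurComplement
import Mathlib.LinearAlgebra.Matrix.NonsingularInverse
import Mathlib.RingTheory.Ideal.Maps

/-!
# Minors of a matrix with an invertible block
-/

set_option autoImplicit false

noncomputable section

open Matrix

namespace DegenGenLib

variable {A B : Type*} [CommRing A] [CommRing B] {f e r : ℕ}

/-- The ideal of the minors of a given size. -/
def J (M : Matrix (Fin f) (Fin e) A) (s : ℕ) : Ideal A :=
  Ideal.span (Set.range fun p : (Fin s → Fin f) × (Fin s → Fin e) => (M.submatrix p.1 p.2).det)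

theorem det_mem_J (M : Matrix (Fin f) (Fin e) A) {s : ℕ} (R : Fin s → Fin f) (C : Fin s → Fin e) :
    (M.submatrix R C).det ∈ J M s :=
  Ideal.subset_span ⟨(R, C), rfl⟩

theorem map_det (g : A →+* B) {s : ℕ} (M : Matrix (Fin f) (Fin e) A) (R : Fin s → Fin f) (C : Fin s → Fin e) :
    g (M.submatrix R C).det = ((M.map g).submatrix R C).det :=
  g.map_det _

theorem J_map (g : A →+* B) (M : Matrix (Fin f) (Fin e) A) (s : ℕ) : (J M s).map g = J (M.map g) s := by
  rw [J, J, Ideal.map_span, ← Set.range_comp]
  exact congrArg Ideal.span (congrArg Set.range (funext fun p => map_det g M p.1 p.2))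

theorem J_map_le_bot (g : A →+* B) (M : Matrix (Fin f) (Fin e) A) (s : ℕ) {a : A} (ha : a ∈ J M s)
    (h : J (M.map g) s = ⊥) : g a = 0 := by
  have := Ideal.mem_map_of_mem g ha
  rwa [J_map, h, Ideal.mem_bot] at this

/-- A product through `r` rows has no `r + 1` minors. -/
theorem J_mul (P : Matrix (Fin f) (Fin r) A) (Q : Matrix (Fin r) (Fin e) A) : J (P * Q) (r + 1) = ⊥ := by
  rw [J, Ideal.span_eq_bot]
  rintro _ ⟨⟨R, C⟩, rfl⟩
  let P' : Matrix (Fin (r + 1)) (Fin (r + 1)) A :=
    Matrix.of fun a c => Fin.snoc (α := fun _ => A) (fun b => P (R a) b) 0 c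
  let Q' : Matrix (Fin (r + 1)) (Fin (r + 1)) A :=
    Matrix.of fun c d => Fin.snoc (α := fun _ => A) (fun b => Q b (C d)) 0 c
  have h : (P * Q).submatrix R C = P' * Q' := by
    ext a d
    simp [Matrix.mul_apply, P', Q', Fin.sum_univ_castSucc]
  show ((P * Q).submatrix R C).det = 0
  rw [h, Matrix.det_mul, Matrix.det_eq_zero_of_column_eq_zero (Fin.last r) (fun a => by simp [P']), zero_mul]

variable (M : Matrix (Fin f) (Fin e) A) (R : Fin r → Fin f) (C : Fin r → Fin e)

/-- The bordered minor. -/
def bord (i : Fin f) (j : Fin e) : A :=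
  (M.submatrix (Sum.elim R fun _ : Unit => i) (Sum.elim C fun _ : Unit => j)).det

theorem bord_mem (i : Fin f) (j : Fin e) : bord M R C i j ∈ J M (r + 1) := by
  let σ : Fin (r + 1) ≃ Fin r ⊕ Unit :=
    finSumFinEquiv.symm.trans (Equiv.sumCongr (Equiv.refl _) (Equiv.ofUnique _ _))
  rw [bord, ← Matrix.det_submatrix_equiv_self σ, Matrix.submatrix_submatrix]
  exact det_mem_J M _ _

theorem map_bord (g : A →+* B) (i : Fin f) (j : Fin e) : g (bord M R C i j) = bord (M.map g) R C i j :=
  g.map_det _

/-- The matrix of rank `r` having the same rows `R` and columns `C`. -/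
def star : Matrix (Fin f) (Fin e) A := M.submatrix id C * (M.submatrix R C)⁻¹ * M.submatrix R id

theorem star_apply (i : Fin f) (j : Fin e) :
    star M R C i j = ∑ y, (∑ x, M i (C x) * (M.submatrix R C)⁻¹ x y) * M (R y) j := rfl

variable {M R C}

theorem star_row (h : IsUnit (M.submatrix R C).det) : (star M R C).submatrix R id = M.submatrix R id := by
  change M.submatrix R C * (M.submatrix R C)⁻¹ * M.submatrix R id = _
  rw [Matrix.mul_nonsing_inv _ h, Matrix.one_mul]

theorem star_col (h : IsUnit (M.submatrix R C).det) : (star M R C).submatrix id C = M.submatrix id C := by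
  change M.submatrix id C * (M.submatrix R C)⁻¹ * M.submatrix R C = _
  rw [Matrix.mul_assoc, Matrix.nonsing_inv_mul _ h, Matrix.mul_one]

theorem J_star : J (star M R C) (r + 1) = ⊥ := J_mul _ _

theorem bord_eq (h : IsUnit (M.submatrix R C).det) (i : Fin f) (j : Fin e) :
    bord M R C i j = (M.submatrix R C).det * (M i j - star M R C i j) := by
  letI := (M.submatrix R C).invertibleOfIsUnitDet h
  have hb : M.submatrix (Sum.elim R fun _ : Unit => i) (Sum.elim C fun _ : Unit => j) =
      Matrix.fromBlocks (M.submatrix R C) (M.submatrix R fun _ => j) (M.submatrix (fun _ => i) C)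
        (M.submatrix (fun _ => i) fun _ => j) := by
    ext (a | a) (b | b) <;> rfl
  rw [bord, hb, Matrix.det_fromBlocks₁₁, Matrix.invOf_eq_nonsing_inv]
  exact congrArg ((M.submatrix R C).det * ·) ((Matrix.det_unique _).trans rfl)

theorem star_eq_of_bord (h : IsUnit (M.submatrix R C).det)
    (hb : ∀ i ∉ Set.range R, ∀ j ∉ Set.range C, bord M R C i j = 0) : star M R C = M := by
  ext i j
  by_cases hi : i ∈ Set.range R
  · obtain ⟨a, rfl⟩ := hi
    exact congrFun (congrFun (star_row h) a) j
  by_cases hj : j ∈ Set.range C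
  · obtain ⟨a, rfl⟩ := hj
    exact congrFun (congrFun (star_col h) i) a
  have := (bord_eq h i j).symm.trans (hb i hi j hj)
  exact (sub_eq_zero.1 (h.mul_right_eq_zero.1 this)).symm

theorem star_eq_of_J (h : IsUnit (M.submatrix R C).det) (hJ : J M (r + 1) = ⊥) : star M R C = M :=
  star_eq_of_bord h fun i _ j _ => by
    have := bord_mem M R C i j
    rwa [hJ, Ideal.mem_bot] at this

theorem J_eq_bot_of_bord (h : IsUnit (M.submatrix R C).det)
    (hb : ∀ i ∉ Set.range R, ∀ j ∉ Set.range C, bord M R C i j = 0) : J M (r + 1) = ⊥ := by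
  rw [← star_eq_of_bord h hb, J_star]

theorem map_inv (g : A →+* B) {n : Type*} [Fintype n] [DecidableEq n] (N : Matrix n n A) (h : IsUnit N.det) :
    N⁻¹.map g = (N.map g)⁻¹ := by
  refine (Matrix.inv_eq_right_inv ?_).symm
  rw [← Matrix.map_mul, Matrix.mul_nonsing_inv _ h, Matrix.map_one _ (map_zero g) (map_one g)]

theorem map_star (g : A →+* B) (h : IsUnit (M.submatrix R C).det) :
    (star M R C).map g = star (M.map g) R C := by
  rw [star, star, Matrix.map_mul, Matrix.map_mul, map_inv g _ h]
  rfl

theorem isUnit_det_map (g : A →+* B) (h : IsUnit (M.submatrix R C).det) :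
    IsUnit ((M.map g).submatrix R C).det := map_det g M R C ▸ h.map g

end DegenGenLib

end
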