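import Groth.Agent.DegenGenLib.Block

/-!
# Finite sums: spanning, bases, finiteness
-/

set_option autoImplicit false
set_option linter.style.haveILetI false
set_option backward.isDefEq.respectTransparency false
set_option backward.isDefEq.respectTransparency.types false

noncomputable section

universe u

open CategoryTheory CategoryTheory.Limits AlgebraicGeometry TopologicalSpace Opposite
open Groth.Agent.S17486 (lin lin_comp lin_add lin_id lin_zero)

namespace DegenGenLib

variable {X : Scheme.{u}}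

/-- Spanning passes to finite sums in the first argument. -/
theorem HSpan.sum_left {ι : Type*} [Fintype ι] {Ei : ι → X.Modules} {E F : X.Modules} (inj : ∀ i, Ei i ⟶ E)
    (proj : ∀ i, E ⟶ Ei i) (htot : ∑ i, proj i ≫ inj i = 𝟙 E) (h : ∀ i, HSpan (Ei i) F) : HSpan E F := by
  intro y
  let St := DerSch.stalkFunctor X y
  rw [eq_top_iff]
  rintro L -
  have hL : L = ∑ i, (L ∘ₗ (St.map (inj i)).hom) ∘ₗ (St.map (proj i)).hom := by
    refine LinearMap.ext fun z => ?_
    have h1 : (St.map (𝟙 E)).hom z = z := by rw [St.map_id]; rfl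
    conv_lhs => rw [← h1, ← htot]
    simp only [Functor.map_sum, Functor.map_comp, ModuleCat.hom_sum, LinearMap.sum_apply, map_sum, ModuleCat.hom_comp,
      LinearMap.comp_apply]
    rfl
  rw [hL]
  refine Submodule.sum_mem _ fun i _ => ?_
  have hi : (L ∘ₗ (St.map (inj i)).hom) ∈ Submodule.span (X.presheaf.stalk y)
      (Set.range fun φ : Ei i ⟶ F => (St.map φ).hom) := (h i y).ge Submodule.mem_top
  generalize L ∘ₗ (St.map (inj i)).hom = M at hi ⊢
  induction hi using Submodule.span_induction with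
  | mem z hz =>
    obtain ⟨φ, rfl⟩ := hz
    exact Submodule.subset_span ⟨proj i ≫ φ, by simp only [Functor.map_comp, ModuleCat.hom_comp]; rfl⟩
  | zero => rw [LinearMap.zero_comp]; exact zero_mem _
  | add a b _ _ ha hb => rw [LinearMap.add_comp]; exact add_mem ha hb
  | smul c a _ ha => rw [LinearMap.smul_comp]; exact Submodule.smul_mem _ c ha

/-- Spanning passes to finite sums in the second argument. -/
theorem HSpan.sum_right {ι : Type*} [Fintype ι] {Fi : ι → X.Modules} {E F : X.Modules} (inj : ∀ i, Fi i ⟶ F)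
    (proj : ∀ i, F ⟶ Fi i) (htot : ∑ i, proj i ≫ inj i = 𝟙 F) (h : ∀ i, HSpan E (Fi i)) : HSpan E F := by
  intro y
  let St := DerSch.stalkFunctor X y
  rw [eq_top_iff]
  rintro L -
  have hL : L = ∑ i, (St.map (inj i)).hom ∘ₗ ((St.map (proj i)).hom ∘ₗ L) := by
    refine LinearMap.ext fun z => ?_
    have h1 : (St.map (𝟙 F)).hom (L z) = L z := by rw [St.map_id]; rfl
    conv_lhs => rw [← h1, ← htot]
    simp only [Functor.map_sum, Functor.map_comp, ModuleCat.hom_sum, LinearMap.sum_apply, ModuleCat.hom_comp,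
      LinearMap.comp_apply]
    exact (LinearMap.sum_apply Finset.univ (fun i => (St.map (inj i)).hom ∘ₗ ((St.map (proj i)).hom ∘ₗ L)) z).symm
  rw [hL]
  refine Submodule.sum_mem _ fun i _ => ?_
  have hi : ((St.map (proj i)).hom ∘ₗ L) ∈ Submodule.span (X.presheaf.stalk y)
      (Set.range fun φ : E ⟶ Fi i => (St.map φ).hom) := (h i y).ge Submodule.mem_top
  generalize (St.map (proj i)).hom ∘ₗ L = M at hi ⊢
  induction hi using Submodule.span_induction with
  | mem z hz =>
    obtain ⟨φ, rfl⟩ := hz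
    exact Submodule.subset_span ⟨φ ≫ inj i, by simp only [Functor.map_comp, ModuleCat.hom_comp]; rfl⟩
  | zero => rw [LinearMap.comp_zero]; exact zero_mem _
  | add a b _ _ ha hb => rw [LinearMap.comp_add]; exact add_mem ha hb
  | smul c a _ ha => rw [LinearMap.comp_smul]; exact Submodule.smul_mem _ c ha

/-- The projections of a finite coproduct of copies of a module. -/
def coprojC {n : ℕ} (L : X.Modules) (i : Fin n) : (∐ fun _ : Fin n => L) ⟶ L :=
  Sigma.desc fun j => if j = i then 𝟙 L else 0

theorem ι_coprojC {n : ℕ} (L : X.Modules) (i j : Fin n) :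
    Sigma.ι (fun _ : Fin n => L) j ≫ coprojC L i = if j = i then 𝟙 L else 0 := by
  rw [coprojC, Sigma.ι_desc]

theorem total_coprojC {n : ℕ} (L : X.Modules) :
    ∑ i, coprojC L i ≫ Sigma.ι (fun _ : Fin n => L) i = 𝟙 (∐ fun _ : Fin n => L) := by
  refine Sigma.hom_ext _ _ fun j => ?_
  rw [Preadditive.comp_sum, Category.comp_id]
  simp [← Category.assoc, ι_coprojC, ite_comp]

theorem HSpan.coprod_left {n : ℕ} {L F : X.Modules} (h : HSpan L F) : HSpan (∐ fun _ : Fin n => L) F :=
  HSpan.sum_left _ _ (total_coprojC L) fun _ => h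

theorem HSpan.coprod_right {n : ℕ} {E L : X.Modules} (h : HSpan E L) : HSpan E (∐ fun _ : Fin n => L) :=
  HSpan.sum_right _ _ (total_coprojC L) fun _ => h

theorem HSpan.biprod_right {E P Q : X.Modules} (hP : HSpan E P) (hQ : HSpan E Q) : HSpan E (P ⊞ Q) :=
  HSpan.sum_right (ι := Bool) (Fi := fun b => bif b then P else Q)
    (fun b => match b with | true => biprod.inl | false => biprod.inr)
    (fun b => match b with | true => biprod.fst | false => biprod.snd)
    (by rw [Fintype.sum_bool]; exact biprod.total) fun b => match b with | true => hP | false => hQ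

/-- A basis of the sections of a finite sum of copies. -/
theorem nonempty_basis_coprod {n : ℕ} {L : X.Modules} {U : X.Opens} (b : Module.Basis (Fin 1) Γ(X, U) Γ(L, U)) :
    Nonempty (Module.Basis (Fin n) Γ(X, U) Γ(∐ fun _ : Fin n => L, U)) := by
  classical
  have hsum : ∀ {M N : X.Modules} (g : Fin n → (M ⟶ N)), lin (∑ i, g i) U = ∑ i, lin (g i) U := fun {M N} g => by
    let T : (M ⟶ N) →+ (Γ(M, U) →ₗ[Γ(X, U)] Γ(N, U)) :=
      { toFun := fun t => lin t U, map_zero' := lin_zero M N U, map_add' := fun s t => lin_add s t U }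
    exact map_sum T g Finset.univ
  let to' : Γ(∐ fun _ : Fin n => L, U) →ₗ[Γ(X, U)] (Fin n → Γ(L, U)) := LinearMap.pi fun i => lin (coprojC L i) U
  let inv' : (Fin n → Γ(L, U)) →ₗ[Γ(X, U)] Γ(∐ fun _ : Fin n => L, U) :=
    ∑ i, (lin (Sigma.ι (fun _ : Fin n => L) i) U).comp (LinearMap.proj i)
  have h1 : inv'.comp to' = LinearMap.id := by
    refine LinearMap.ext fun z => ?_
    have h := LinearMap.congr_fun (congrArg (fun t => lin t U) (total_coprojC (n := n) L)) z
    simp only [hsum, lin_comp, lin_id, LinearMap.sum_apply, LinearMap.comp_apply, LinearMap.id_apply] at h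
    simpa [to', inv', LinearMap.sum_apply] using h
  have h2 : to'.comp inv' = LinearMap.id := by
    refine LinearMap.ext fun z => funext fun i => ?_
    show lin (coprojC L i) U (inv' z) = z i
    simp only [inv', LinearMap.sum_apply, map_sum, LinearMap.comp_apply, LinearMap.proj_apply]
    simp only [← LinearMap.comp_apply, ← lin_comp, ι_coprojC]
    rw [Finset.sum_eq_single i]
    · rw [if_pos rfl, lin_id]; rfl
    · intro j _ hj
      rw [if_neg hj, lin_zero]; rfl
    · simp
  let e : Γ(∐ fun _ : Fin n => L, U) ≃ₗ[Γ(X, U)] (Fin n → Γ(L, U)) := LinearEquiv.ofLinear to' inv' h2 h1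
  exact ⟨((Pi.basis fun _ : Fin n => b).map e.symm).reindex ((Equiv.sigmaEquivProd (Fin n) (Fin 1)).trans (Equiv.prodUnique (Fin n) (Fin 1)))⟩

/-- Every point has an affine neighbourhood below which the sections are free of rank `e`. -/
def HasBases (e : ℕ) (E : X.Modules) : Prop :=
  ∀ x : X, ∃ O : X.Opens, x ∈ O ∧ ∀ U : X.affineOpens, U.1 ≤ O → Nonempty (Module.Basis (Fin e) Γ(X, U.1) Γ(E, U.1))

theorem hasBases_of_rank {e : ℕ} {E : X.Modules} (h : FlatMod.IsFinLocFreeOfRank e E) : HasBases e E :=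
  fun x => KZeroSecLib.exists_basis_nhd h x

theorem hasBases_coprod {n : ℕ} {L : X.Modules} (h : HasBases 1 L) : HasBases n (∐ fun _ : Fin n => L) := fun x => by
  obtain ⟨O, hx, hO⟩ := h x
  exact ⟨O, hx, fun U hU => nonempty_basis_coprod (hO U hU).some⟩

theorem hasBases_biprod {p q : ℕ} {P Q : X.Modules} (hP : HasBases p P) (hQ : HasBases q Q) :
    HasBases (p + q) (P ⊞ Q) := fun x => by
  obtain ⟨O, hx, hO⟩ := hP x
  obtain ⟨O', hx', hO'⟩ := hQ x
  exact ⟨O ⊓ O', ⟨hx, hx'⟩, fun U hU =>
    ⟨biprodBasis (hO U (hU.trans inf_le_left)).some (hO' U (hU.trans inf_le_right)).some⟩⟩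

variable (k : Type u) [Field k] [X.Over (Spec (CommRingCat.of k))]

theorem finite_hom_coprod_left {n : ℕ} {L F : X.Modules} (h : Module.Finite k (L ⟶ F)) :
    Module.Finite k ((∐ fun _ : Fin n => L) ⟶ F) := by
  haveI := h
  let T : ((∐ fun _ : Fin n => L) ⟶ F) →ₗ[k] (Fin n → (L ⟶ F)) :=
    LinearMap.pi fun i => CategoryTheory.Linear.leftComp k F (Sigma.ι (fun _ : Fin n => L) i)
  exact Module.Finite.of_injective T fun φ ψ hT => Sigma.hom_ext _ _ fun i => congrFun hT i

theorem finite_hom_coprod_right {n : ℕ} {E L : X.Modules} (h : Module.Finite k (E ⟶ L)) :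
    Module.Finite k (E ⟶ ∐ fun _ : Fin n => L) := by
  haveI := h
  let T : (E ⟶ ∐ fun _ : Fin n => L) →ₗ[k] (Fin n → (E ⟶ L)) :=
    LinearMap.pi fun i => CategoryTheory.Linear.rightComp k E (coprojC L i)
  refine Module.Finite.of_injective T fun φ ψ hT => ?_
  have : ∀ i, φ ≫ coprojC L i = ψ ≫ coprojC L i := fun i => congrFun hT i
  rw [← Category.comp_id φ, ← Category.comp_id ψ, ← total_coprojC (n := n) L, Preadditive.comp_sum,
    Preadditive.comp_sum]
  exact Finset.sum_congr rfl fun i _ => by rw [← Category.assoc, ← Category.assoc, this i]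

theorem finite_hom_biprod_right {E P Q : X.Modules} (h : Module.Finite k (E ⟶ P)) (h' : Module.Finite k (E ⟶ Q)) :
    Module.Finite k (E ⟶ P ⊞ Q) := by
  haveI := h; haveI := h'
  let T : (E ⟶ P ⊞ Q) →ₗ[k] (E ⟶ P) × (E ⟶ Q) :=
    (CategoryTheory.Linear.rightComp k E biprod.fst).prod (CategoryTheory.Linear.rightComp k E biprod.snd)
  exact Module.Finite.of_injective T fun φ ψ hT => biprod.hom_ext _ _ (congrArg Prod.fst hT) (congrArg Prod.snd hT)

end DegenGenLib

end
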