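import Groth.Agent.DegenGenLib.Bound
import Groth.Agent.DegenGenLib.Split
import Groth.Agent.S13458
import Groth.Agent.OmegaAffLib.StalkCrit
import Groth.Agent.FittLib.Generated

/-!
# The rank of a general homomorphism
-/

set_option autoImplicit false
set_option linter.style.haveILetI false
set_option backward.isDefEq.respectTransparency false
set_option backward.isDefEq.respectTransparency.types false

noncomputable section

universe u

open CategoryTheory CategoryTheory.Limits AlgebraicGeometry TopologicalSpace Opposite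
open Groth.Agent.S17486 (lin exact_sections)

namespace DegenGenLib

variable {X : Scheme.{u}} {E F : X.Modules} {e f : ℕ}

/-- Every point has a chart in which the rank drops in codimension at least `|f - e| + 1`, measured in
dimension `n`. -/
def RankGood (n e f : ℕ) (φ : E ⟶ F) : Prop :=
  ∀ x : X, ∃ U : X.affineOpens, x ∈ U.1 ∧ ∃ (bE : Module.Basis (Fin e) Γ(X, U.1) Γ(E, U.1))
    (bF : Module.Basis (Fin f) Γ(X, U.1) Γ(F, U.1)), ∀ P : Ideal Γ(X, U.1), P.IsPrime →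
      J (mat bE bF φ) (min e f) ≤ P →
        ringKrullDim (Γ(X, U.1) ⧸ P) + ((max e f - min e f + 1 : ℕ) : WithBot ℕ∞) ≤ (n : WithBot ℕ∞)

theorem eq_top_of_rankGood {n : ℕ} {φ : E ⟶ F} (h : RankGood n e f φ) (hn : n < max e f - min e f + 1) (x : X) :
    ∃ U : X.affineOpens, x ∈ U.1 ∧ ∃ (bE : Module.Basis (Fin e) Γ(X, U.1) Γ(E, U.1))
      (bF : Module.Basis (Fin f) Γ(X, U.1) Γ(F, U.1)), J (mat bE bF φ) (min e f) = ⊤ := by
  obtain ⟨U, hx, bE, bF, hP⟩ := h x
  refine ⟨U, hx, bE, bF, ?_⟩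
  by_contra hne
  obtain ⟨P, hPm, hle⟩ := Ideal.exists_le_maximal _ hne
  haveI := Ideal.Quotient.nontrivial_iff.2 hPm.ne_top
  have h0 : (0 : WithBot ℕ∞) ≤ ringKrullDim (Γ(X, U.1) ⧸ P) := ringKrullDim_nonneg_of_nontrivial
  have h1 : ((max e f - min e f + 1 : ℕ) : WithBot ℕ∞) ≤ (n : WithBot ℕ∞) := by
    refine le_trans ?_ (hP P hPm.isPrime hle)
    calc ((max e f - min e f + 1 : ℕ) : WithBot ℕ∞) = 0 + ((max e f - min e f + 1 : ℕ) : WithBot ℕ∞) := (zero_add _).symm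
      _ ≤ _ := add_le_add h0 le_rfl
  exact absurd (Nat.cast_le.1 h1) (not_le.2 hn)

theorem ne_bot_of_rankGood (k : Type u) [Field k] [X.Over (Spec (CommRingCat.of k))] [IsIntegral X]
    [LocallyOfFiniteType (X ↘ Spec (CommRingCat.of k))] {n : ℕ} (hdim : topologicalKrullDim X = n) {φ : E ⟶ F}
    (h : RankGood n e f φ) (x : X) :
    ∃ U : X.affineOpens, x ∈ U.1 ∧ ∃ (bE : Module.Basis (Fin e) Γ(X, U.1) Γ(E, U.1))
      (bF : Module.Basis (Fin f) Γ(X, U.1) Γ(F, U.1)), J (mat bE bF φ) (min e f) ≠ ⊥ := by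
  obtain ⟨U, hx, bE, bF, hP⟩ := h x
  refine ⟨U, hx, bE, bF, fun hbot => ?_⟩
  haveI : Nonempty U.1 := ⟨⟨x, hx⟩⟩
  have h1 := hP ⊥ Ideal.isPrime_bot hbot.le
  rw [ringKrullDim_eq_of_ringEquiv (RingEquiv.quotientBot Γ(X, U.1)), dim_affine k n hdim U.2 hx,
    ← Nat.cast_add, Nat.cast_le] at h1
  omega

/-- A nonzero maximal minor makes the sections injective. -/
theorem injective_of_ne_bot {U : X.Opens} [IsDomain Γ(X, U)] (bE : Module.Basis (Fin e) Γ(X, U) Γ(E, U))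
    (bF : Module.Basis (Fin f) Γ(X, U) Γ(F, U)) (φ : E ⟶ F) (h : J (mat bE bF φ) e ≠ ⊥) :
    Function.Injective (φ.app U) := by
  classical
  obtain ⟨⟨R, C⟩, hRC⟩ : ∃ p : (Fin e → Fin f) × (Fin e → Fin e), ((mat bE bF φ).submatrix p.1 p.2).det ≠ 0 := by
    by_contra hne
    push_neg at hne
    exact h (Ideal.span_eq_bot.2 (by rintro _ ⟨p, rfl⟩; exact hne p))
  have hC : Function.Surjective C := by
    refine Finite.injective_iff_surjective.1 fun a b hab => ?_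
    by_contra hne
    exact hRC (Matrix.det_zero_of_column_eq hne fun i => by simp [hab])
  show Function.Injective (lin φ U)
  rw [← LinearMap.ker_eq_bot, LinearMap.ker_eq_bot']
  intro z hz
  have hM : Matrix.mulVec (mat bE bF φ) (bE.equivFun z) = 0 := by
    refine (LinearMap.toMatrix_mulVec_repr bE bF (lin φ U) z).trans ?_
    rw [hz, map_zero]
    rfl
  let σ : Fin e ≃ Fin e := Equiv.ofBijective C ⟨Finite.injective_iff_surjective.2 hC, hC⟩
  have hv : Matrix.mulVec ((mat bE bF φ).submatrix R C) (bE.equivFun z ∘ C) = 0 := by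
    funext i
    have h1 := congrFun hM (R i)
    simp only [Matrix.mulVec, dotProduct, Matrix.submatrix_apply, Function.comp_apply, Pi.zero_apply] at h1 ⊢
    rw [← h1]
    exact (Equiv.sum_comp σ fun j => mat bE bF φ (R i) j * bE.equivFun z j)
  have h2 := Matrix.eq_zero_of_mulVec_eq_zero hRC hv
  refine bE.equivFun.injective ?_
  rw [map_zero]
  funext j
  obtain ⟨j, rfl⟩ := hC j
  exact congrFun h2 j

theorem mono_of_ne_bot [IsIntegral X] [Coh.IsQCoh E] [Coh.IsQCoh F] (φ : E ⟶ F)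
    (h : ∀ x : X, ∃ U : X.affineOpens, x ∈ U.1 ∧ ∃ (bE : Module.Basis (Fin e) Γ(X, U.1) Γ(E, U.1))
      (bF : Module.Basis (Fin f) Γ(X, U.1) Γ(F, U.1)), J (mat bE bF φ) e ≠ ⊥) : Mono φ := by
  refine Groth.Agent.S13458.mono_of_injective_charts φ fun x => ?_
  obtain ⟨U, hx, bE, bF, hJ⟩ := h x
  haveI : Nonempty U.1 := ⟨⟨x, hx⟩⟩
  exact ⟨U.1, U.2, hx, injective_of_ne_bot bE bF φ hJ⟩

theorem J_eq_bot_of_lt {A : Type*} [CommRing A] {f e s : ℕ} (M : Matrix (Fin f) (Fin e) A) (h : e < s) :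
    J M s = ⊥ := by
  classical
  rw [J, Ideal.span_eq_bot]
  rintro _ ⟨⟨R, C⟩, rfl⟩
  obtain ⟨a, b, hab, hC⟩ := Fintype.exists_ne_map_eq_of_card_lt C (by simpa using h)
  exact Matrix.det_zero_of_column_eq hab fun i => by simp [hC]

theorem J_antitone {A : Type*} [CommRing A] {f e : ℕ} (M : Matrix (Fin f) (Fin e) A) {s t : ℕ} (h : s ≤ t) :
    J M t ≤ J M s := by
  classical
  induction h with
  | refl => rfl
  | @step t _ ih =>
    refine le_trans ?_ ih
    rw [J, Ideal.span_le]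
    rintro _ ⟨⟨R, C⟩, rfl⟩
    show (M.submatrix R C).det ∈ J M t
    rw [Matrix.det_succ_row_zero]
    refine Ideal.sum_mem _ fun j _ => Ideal.mul_mem_left _ _ ?_
    rw [Matrix.submatrix_submatrix]
    exact det_mem_J M _ _

theorem locFree_cokernel_of_eq_top (hef : e ≤ f) (hE : Coh.IsQCoh E) (hF : Coh.IsQCoh F) (hFft : CohB1.IsFT F)
    (φ : E ⟶ F)
    (h : ∀ x : X, ∃ U : X.affineOpens, x ∈ U.1 ∧ ∃ (bE : Module.Basis (Fin e) Γ(X, U.1) Γ(E, U.1))
      (bF : Module.Basis (Fin f) Γ(X, U.1) Γ(F, U.1)), J (mat bE bF φ) e = ⊤) :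
    FlatMod.IsFinLocFreeOfRank (f - e) (cokernel φ) := by
  haveI := hE; haveI := hF
  haveI := QCohLib.isQCoh_cokernel φ
  have hft : CohB1.IsFT (cokernel φ) := QCohLib.isFT_of_epi (cokernel.π φ) hFft
  choose U hxU bE bF hJ using h
  have hcov : ⨆ x, (U x).1 = ⊤ := top_le_iff.mp fun x _ => Opens.mem_iSup.mpr ⟨x, hxU x⟩
  refine (FittLib.isFinLocFreeOfRank_iff _ hft _).2 ⟨fun l hl => ?_, fun l hl => ?_⟩
  · refine Scheme.IdealSheafData.ext_of_iSup_eq_top U hcov fun x => ?_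
    rw [FittLib.sheafIdeal_ideal _ hft l, fitt_cokernel (bE x) (bF x) (U x).2 φ, J_eq_bot_of_lt _ (by omega)]
    rfl
  · refine Scheme.IdealSheafData.ext_of_iSup_eq_top U hcov fun x => ?_
    rw [FittLib.sheafIdeal_ideal _ hft l, fitt_cokernel (bE x) (bF x) (U x).2 φ]
    exact top_le_iff.1 ((hJ x).ge.trans (J_antitone _ (by omega)))

theorem epi_of_eq_top (hE : Coh.IsQCoh E) (hF : Coh.IsQCoh F) (hFft : CohB1.IsFT F) (φ : E ⟶ F)
    (h : ∀ x : X, ∃ U : X.affineOpens, x ∈ U.1 ∧ ∃ (bE : Module.Basis (Fin e) Γ(X, U.1) Γ(E, U.1))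
      (bF : Module.Basis (Fin f) Γ(X, U.1) Γ(F, U.1)), J (mat bE bF φ) f = ⊤) : Epi φ := by
  haveI := hE; haveI := hF
  refine OmegaAffLib.epi_of_surjective_charts φ fun x => ?_
  obtain ⟨U, hx, bE, bF, hJ⟩ := h x
  obtain ⟨hex, -⟩ := exact_sections φ U.2
  haveI := QCohLib.isQCoh_cokernel φ
  have hft : CohB1.IsFT (cokernel φ) := QCohLib.isFT_of_epi (cokernel.π φ) hFft
  haveI := QCohLib.finite_of_isFT hft U.2
  have h0 : Fitt.ideal Γ(X, U.1) Γ(cokernel φ, U.1) 0 = ⊤ := by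
    rw [fitt_cokernel bE bF U.2 φ, Nat.sub_zero, hJ]
  have hsub : Subsingleton Γ(cokernel φ, U.1) := by
    rw [← Module.support_eq_empty_iff (R := Γ(X, U.1)), ← FittLib.zeroLocus_ideal_zero, h0]
    simp
  exact ⟨U.1, U.2, hx, fun t => (hex t).1 (Subsingleton.elim _ _)⟩

variable (k : Type u) [Field k] [X.Over (Spec (CommRingCat.of k))]

set_option maxHeartbeats 1000000 in
/-- A general homomorphism drops rank only in the expected codimension. -/
theorem exists_rankGood [IsAlgClosed k] [CharZero k] [IsIntegral X] [Smooth (X ↘ Spec (CommRingCat.of k))]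
    [IsProper (X ↘ Spec (CommRingCat.of k))] (n : ℕ) (hdim : topologicalKrullDim X = n)
    (hE : FlatMod.IsFinLocFree E) (hF : FlatMod.IsFinLocFree F) (hbE : HasBases e E) (hbF : HasBases f F)
    (hspan : HSpan E F) :
    ∃ (m : ℕ) (c : (E ⟶ F) ≃ₗ[k] (Fin m → k)) (p : MvPolynomial (Fin m) k), p ≠ 0 ∧
      ∀ φ : E ⟶ F, MvPolynomial.eval (c φ) p ≠ 0 → RankGood n e f φ := by
  classical
  haveI := (LocSuppLib.isCoh_of_isFinLocFree hE).1
  haveI := (LocSuppLib.isCoh_of_isFinLocFree hF).1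
  haveI := finite_hom k hE hF
  let q : X ⟶ Spec (CommRingCat.of k) := X ↘ Spec (CommRingCat.of k)
  haveI : CompactSpace X := QuasiCompact.compactSpace_of_compactSpace q
  let b := Module.finBasis k (E ⟶ F)
  let c := b.equivFun
  let m := Module.finrank k (E ⟶ F)
  have hb : ∀ φ : E ⟶ F, ∃ d : Fin m → k, φ = ∑ v, d v • b v := fun φ => ⟨c φ, (b.sum_equivFun φ).symm⟩
  have hcov : ∀ x : X, ∃ (U : X.affineOpens), x ∈ U.1 ∧ Nonempty (Module.Basis (Fin e) Γ(X, U.1) Γ(E, U.1)) ∧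
      Nonempty (Module.Basis (Fin f) Γ(X, U.1) Γ(F, U.1)) := by
    intro x
    obtain ⟨O₁, h1, f1⟩ := hbE x
    obtain ⟨O₂, h2, f2⟩ := hbF x
    obtain ⟨U, hU, hxU, hle⟩ := exists_isAffineOpen_mem_and_subset (U := O₁ ⊓ O₂) (x := x) ⟨h1, h2⟩
    exact ⟨⟨U, hU⟩, hxU, f1 ⟨U, hU⟩ fun y hy => (hle hy).1, f2 ⟨U, hU⟩ fun y hy => (hle hy).2⟩
  choose U hxU hbE' hbF' using hcov
  let bE := fun x => (hbE' x).some
  let bF := fun x => (hbF' x).some
  obtain ⟨t, ht⟩ := isCompact_univ.elim_finite_subcover (fun x : X => ((U x).1 : Set X)) (fun x => (U x).1.2)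
    (fun x _ => Set.mem_iUnion_of_mem x (hxU x))
  have key : ∀ (x : X) (r : Fin (min e f)) (R : Fin r → Fin f) (C : Fin r → Fin e),
      letI := BertiniJetLib.algOn (X ↘ Spec (CommRingCat.of k)) (U x).1
      ∃ p : MvPolynomial (Fin m) k, p ≠ 0 ∧ ∀ d : Fin m → k, MvPolynomial.eval d p ≠ 0 →
        ∀ I : Ideal (Chart (comb (fun v => mat (bE x) (bF x) (b v)) d) R C), I.IsMaximal →
          I.height + (((f - r) * (e - r) : ℕ) : ℕ∞) = (n : ℕ∞) := by
    intro x r R C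
    letI := BertiniJetLib.algOn (X ↘ Spec (CommRingCat.of k)) (U x).1
    haveI := BertiniJetLib.smooth_algOn q (U x)
    haveI : Nonempty (U x).1 := ⟨⟨x, hxU x⟩⟩
    obtain ⟨p, h0, h⟩ := exists_good (k := k) n (dim_affine k n hdim (U x).2 (hxU x)) _ R C Set.univ
      (spans_mat (bE x) (bF x) (U x).2 hspan b hb) fun _ _ _ _ => Set.mem_univ _
    exact ⟨p, h0, fun d hd => (h d hd).2⟩
  choose p hp0 hp using key
  refine ⟨m, c, ∏ x ∈ t, ∏ r, ∏ R, ∏ C, p x r R C, ?_, fun φ hφ x' => ?_⟩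
  · exact Finset.prod_ne_zero_iff.2 fun x _ => Finset.prod_ne_zero_iff.2 fun r _ => Finset.prod_ne_zero_iff.2
      fun R _ => Finset.prod_ne_zero_iff.2 fun C _ => hp0 x r R C
  simp only [map_prod, Finset.prod_ne_zero_iff] at hφ
  obtain ⟨x, hxt, hx⟩ := Set.mem_iUnion₂.1 (ht (Set.mem_univ x'))
  refine ⟨U x, hx, bE x, bF x, fun P hP hJ => ?_⟩
  letI := BertiniJetLib.algOn (X ↘ Spec (CommRingCat.of k)) (U x).1
  haveI : Algebra.FiniteType k Γ(X, (U x).1) := by
    haveI := BertiniJetLib.smooth_algOn q (U x)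
    infer_instance
  have hM : mat (bE x) (bF x) φ = comb (fun v => mat (bE x) (bF x) (b v)) (c φ) := by
    conv_lhs => rw [(b.sum_equivFun φ).symm]
    exact mat_sum (bE x) (bF x) b (c φ)
  rw [hM] at hJ
  let M := comb (fun v => mat (bE x) (bF x) (b v)) (c φ)
  let hex : ∃ r, J M r ≤ P := ⟨min e f, hJ⟩
  have hpos : Nat.find hex ≠ 0 := fun h => by
    have h' := (h ▸ Nat.find_spec hex : J M 0 ≤ P) (det_mem_J M Fin.elim0 Fin.elim0)
    rw [Matrix.det_fin_zero] at h'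
    exact hP.one_notMem h'
  obtain ⟨r, hr⟩ := Nat.exists_eq_succ_of_ne_zero hpos
  have hle : Nat.find hex ≤ min e f := Nat.find_min' hex hJ
  have hrP : ¬ J M r ≤ P := Nat.find_min hex (by omega)
  obtain ⟨_, ⟨⟨R, C⟩, rfl⟩, hRC⟩ := Set.not_subset.1 (fun h => hrP (Ideal.span_le.2 h))
  have hJr : J M (r + 1) ≤ P := by
    have := Nat.find_spec hex
    rwa [hr] at this
  let r' : Fin (min e f) := ⟨r, by omega⟩
  have h := dim_prime_le k M R C n (hp x r' R C (c φ)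
    (hφ x hxt r' (Finset.mem_univ _) R (Finset.mem_univ _) C (Finset.mem_univ _))) P hJr hRC
  refine le_trans (add_le_add le_rfl (Nat.mono_cast (α := WithBot ℕ∞) ?_)) h
  rcases le_total e f with hef | hef
  · calc max e f - min e f + 1 ≤ f - r := by omega
      _ ≤ (f - r) * (e - r) := Nat.le_mul_of_pos_right _ (by omega)
  · calc max e f - min e f + 1 ≤ e - r := by omega
      _ ≤ (f - r) * (e - r) := Nat.le_mul_of_pos_left _ (by omega)

end DegenGenLib

end
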