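import Groth.Agent.DegenGenLib.MaxRank
import Groth.Agent.NormalLib.Serre
import Groth.Agent.HurwitzLib.SmoothCurve
import Groth.Agent.LocFFLib.Basic
import Groth.Agent.AssPointLib.Basic
import Groth.Agent.QCohLib.Modules
import Groth.Prelude.Def_ShStab

/-!
# Torsion-freeness of the cokernel of a general map of corank one or more
-/

set_option autoImplicit false
set_option linter.style.haveILetI false
set_option backward.isDefEq.respectTransparency false
set_option backward.isDefEq.respectTransparency.types false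

noncomputable section

universe u

open CategoryTheory CategoryTheory.Limits AlgebraicGeometry TopologicalSpace Opposite
open Groth.Agent.S17486 (lin exact_sections)
open DevissLib (St gm gm_app exists_gm_eq gm_eq_zero_iff)

namespace DegenGenLib

/-- When the maximal minors have no common height-one prime, the cokernel is torsion-free. -/
theorem mem_range_of_smul_mem_range {A : Type u} [CommRing A] [IsDomain A] [IsNoetherianRing A]
    [IsIntegrallyClosed A] {f e : ℕ} (M : Matrix (Fin f) (Fin e) A)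
    (hP : ∀ P : Ideal A, P.IsPrime → J M e ≤ P → P.height ≠ 1) {a : A} (ha : a ≠ 0) (z : Fin f → A)
    (hz : ∃ w, M.mulVec w = a • z) : ∃ w, M.mulVec w = z := by
  classical
  obtain ⟨w, hw⟩ := hz
  have key : ∀ j, a ∣ w j := by
    intro j
    refine NormalLib.dvd_of_forall_associatedPrimes fun P hPa => ?_
    haveI := hPa.isPrime
    obtain ⟨_, ⟨⟨R, C⟩, rfl⟩, hRC⟩ := Set.not_subset.1 (fun h =>
      hP P inferInstance (Ideal.span_le.2 h) (NormalLib.height_eq_one_of_mem_associatedPrimes ha hPa))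
    refine ⟨(M.submatrix R C).det, hRC, ?_⟩
    have hC : Function.Surjective C := by
      refine Finite.injective_iff_surjective.1 fun x y hxy => ?_
      by_contra hne
      refine hRC ?_
      show (M.submatrix R C).det ∈ P
      rw [Matrix.det_zero_of_column_eq hne fun i => by simp [hxy]]
      exact P.zero_mem
    obtain ⟨l, rfl⟩ := hC j
    let σ : Fin e ≃ Fin e := Equiv.ofBijective C ⟨Finite.injective_iff_surjective.2 hC, hC⟩
    have hN : (M.submatrix R C).mulVec (w ∘ C) = a • (z ∘ R) := by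
      funext i
      have h1 := congrFun hw (R i)
      simp only [Matrix.mulVec, dotProduct, Matrix.submatrix_apply, Function.comp_apply, Pi.smul_apply] at h1 ⊢
      rw [← h1]
      exact Equiv.sum_comp σ fun j => M (R i) j * w j
    have h2 := congrArg (Matrix.mulVec (M.submatrix R C).adjugate) hN
    rw [Matrix.mulVec_mulVec, Matrix.adjugate_mul, Matrix.smul_mulVec, Matrix.one_mulVec, Matrix.mulVec_smul] at h2
    exact ⟨((M.submatrix R C).adjugate.mulVec (z ∘ R)) l, congrFun h2 l⟩
  choose u hu using key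
  refine ⟨u, ?_⟩
  have : a • M.mulVec u = a • z := by
    rw [← Matrix.mulVec_smul, ← hw]
    exact congrArg _ (funext fun j => (hu j).symm)
  funext i
  exact mul_left_cancel₀ ha (congrFun this i)

variable (k : Type u) [Field k] {X : Scheme.{u}} [X.Over (Spec (CommRingCat.of k))] {E F : X.Modules} {e f : ℕ}

set_option maxHeartbeats 800000 in
/-- The sections of the cokernel on a chart have no torsion. -/
theorem torsionFree_of_rankGood [IsIntegral X] [Smooth (X ↘ Spec (CommRingCat.of k))] {n : ℕ}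
    (hdim : topologicalKrullDim X = n) (hn2 : 2 ≤ n) [Coh.IsQCoh E] [Coh.IsQCoh F] {φ : E ⟶ F} (hef : e < f)
    (hfe : n ≤ f - e + 1) (h : RankGood n e f φ) (x : X) :
    ∃ U : X.affineOpens, x ∈ U.1 ∧
      ∀ (a : Γ(X, U.1)) (t : Γ(cokernel φ, U.1)), a ≠ 0 → a • t = 0 → t = 0 := by
  obtain ⟨U, hx, bE, bF, hP⟩ := h x
  refine ⟨U, hx, fun a t ha hat => ?_⟩
  haveI : Nonempty U.1 := ⟨⟨x, hx⟩⟩
  haveI : IsIntegrallyClosed Γ(X, U.1) :=
    LocFFLib.isIntegrallyClosed_sections (HurwitzLib.isNormalScheme_of_smooth (k := k)) U.1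
  letI := BertiniJetLib.algOn (X ↘ Spec (CommRingCat.of k)) U.1
  haveI : Algebra.FiniteType k Γ(X, U.1) := by
    haveI := BertiniJetLib.smooth_algOn (X ↘ Spec (CommRingCat.of k)) U
    infer_instance
  haveI : IsNoetherianRing Γ(X, U.1) := Algebra.FiniteType.isNoetherianRing k _
  obtain ⟨hex, hsur⟩ := exact_sections φ U.2
  obtain ⟨s, rfl⟩ := hsur t
  rw [← map_smul] at hat
  obtain ⟨w, hw⟩ := (hex _).1 hat
  let M := mat bE bF φ
  have hM : ∀ v, M.mulVec (bE.equivFun v) = bF.equivFun (lin φ U.1 v) := fun v =>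
    LinearMap.toMatrix_mulVec_repr bE bF (lin φ U.1) v
  have hh : ∀ P : Ideal Γ(X, U.1), P.IsPrime → J M e ≤ P → P.height ≠ 1 := by
    intro P hPp hJ h1
    haveI := hPp
    have hle := hP P hPp (by rwa [Nat.min_eq_left hef.le])
    rw [Nat.max_eq_right hef.le, Nat.min_eq_left hef.le] at hle
    by_cases hmax : P.IsMaximal
    · have h2 := MaxHeight.affine_domain k Γ(X, U.1) P
      rw [h1, dim_affine k n hdim U.2 hx] at h2
      have : (1 : ℕ) = n := by exact_mod_cast h2
      omega
    · have hQ : 1 ≤ ringKrullDim (Γ(X, U.1) ⧸ P) := by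
        by_contra hlt
        refine hmax (Ideal.Quotient.maximal_of_isField _ ?_)
        haveI : Ring.KrullDimLE 0 (Γ(X, U.1) ⧸ P) := by
          rw [Ring.krullDimLE_iff]
          have hlt' : ringKrullDim (Γ(X, U.1) ⧸ P) < 1 := not_le.1 hlt
          generalize ringKrullDim (Γ(X, U.1) ⧸ P) = D at hlt' ⊢
          cases D with
          | bot => exact bot_le
          | coe d => exact WithBot.coe_le_coe.2 (ENat.lt_one_iff_eq_zero.1 (WithBot.coe_lt_coe.1 hlt')).le
        exact Ring.KrullDimLE.isField_of_isDomain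
      have h3 : (1 : WithBot ℕ∞) + ((f - e + 1 : ℕ) : WithBot ℕ∞) ≤ (n : WithBot ℕ∞) :=
        (add_le_add hQ le_rfl).trans hle
      have : 1 + (f - e + 1) ≤ n := by exact_mod_cast h3
      omega
  obtain ⟨u, hu⟩ := mem_range_of_smul_mem_range M hh ha (bF.equivFun s) ⟨bE.equivFun w, by rw [hM, hw, map_smul]⟩
  refine (hex s).2 ⟨bE.equivFun.symm u, bF.equivFun.injective ?_⟩
  rw [← hM, LinearEquiv.apply_symm_apply, hu]

/-- Torsion-free sections on charts make every nonzero coherent submodule supported everywhere. -/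
theorem isPure_of_torsionFree [IsIntegral X] {n : ℕ} (hdim : topologicalKrullDim X = n) {G : X.Modules}
    [Coh.IsQCoh G]
    (h : ∀ x : X, ∃ U : X.affineOpens, x ∈ U.1 ∧ ∀ (a : Γ(X, U.1)) (t : Γ(G, U.1)), a ≠ 0 → a • t = 0 → t = 0) :
    ShStab.IsPure X G n := by
  intro H ι hι hH hH0
  haveI := hι
  haveI : Coh.IsQCoh H := hH.1
  obtain ⟨y, hy⟩ : ∃ y, y ∈ CohB1.support H := by
    by_contra hne
    push_neg at hne
    refine hH0 ((KFlatLib.isZero_iff_forall_stalk _).mpr fun y => ModuleCat.isZero_iff_subsingleton.mpr ?_)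
    exact not_not.1 (hne y)
  obtain ⟨U, hyU, hU⟩ := h y
  obtain ⟨a, ha⟩ : ∃ a : (St y).obj H, a ≠ 0 := by
    by_contra hne
    push_neg at hne
    exact hy (show Subsingleton ((St y).obj H) from ⟨fun p q => (hne p).trans (hne q).symm⟩)
  obtain ⟨v, s, hv, hvs⟩ := AssPointLib.exists_smul_eq_gm U.2 hyU a
  have hs : s ≠ 0 := fun h0 => ha (hv.smul_eq_zero.1 (by rw [hvs, h0]; exact map_zero _))
  haveI : Nonempty U.1 := ⟨⟨y, hyU⟩⟩
  have hξU : genericPoint X ∈ U.1 :=
    ((genericPoint_spec X).mem_open_set_iff U.1.isOpen).mpr (by simpa using (⟨y, hyU⟩ : Nonempty U.1))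
  have hξ : genericPoint X ∈ CohB1.support H := by
    intro hsub
    have h0 : gm H (genericPoint X) hξU s = 0 :=
      @Subsingleton.elim ((St (genericPoint X)).obj H) hsub _ _
    obtain ⟨r, hr, hrs⟩ := (gm_eq_zero_iff U.2 _ hξU s).1 h0
    have hr0 : r ≠ 0 := fun h => hr (h ▸ Ideal.zero_mem _)
    refine hs (QCohLib.app_injective_of_mono ι U.1 ?_)
    rw [map_zero]
    refine hU r _ hr0 ?_
    rw [← QCohLib.app_smul, hrs, map_zero]
  have hft : CohB1.IsFT H := hH.2
  have hsupp : CohB1.support H = Set.univ := by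
    refine Set.eq_univ_of_forall fun x => ?_
    rw [← FittLib.mem_support_zero_iff H hft]
    have h1 : genericPoint X ∈ (Fitt.sheafIdeal H 0).support := (FittLib.mem_support_zero_iff H hft _).2 hξ
    exact ((genericPoint_spec X).specializes (Set.mem_univ x)).mem_closed
      ((Fitt.sheafIdeal H 0).support).isClosed h1
  rw [hsupp, ← hdim]
  exact IsHomeomorph.topologicalKrullDim_eq _ (Homeomorph.Set.univ X).isHomeomorph

/-- An injective map of smaller rank is not surjective. -/
theorem cokernel_ne_zero [IsIntegral X] [Coh.IsQCoh E] [Coh.IsQCoh F] {φ : E ⟶ F} (hef : e < f) {x : X}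
    {U : X.affineOpens} (hx : x ∈ U.1) (bE : Module.Basis (Fin e) Γ(X, U.1) Γ(E, U.1))
    (bF : Module.Basis (Fin f) Γ(X, U.1) Γ(F, U.1)) : ¬ IsZero (cokernel φ) := by
  intro h0
  haveI : Nonempty U.1 := ⟨⟨x, hx⟩⟩
  obtain ⟨hex, hsur⟩ := exact_sections φ U.2
  have hsub : ∀ t : Γ(cokernel φ, U.1), t = 0 := fun t => by
    have := LinearMap.congr_fun (congrArg (fun g => lin g U.1) (h0.eq_of_src (𝟙 (cokernel φ)) 0)) t
    exact this
  have hφ : Function.Surjective (lin φ U.1) := fun s => (hex s).1 (hsub _)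
  haveI := Module.Finite.of_basis bE
  have := LinearMap.finrank_le_finrank_of_surjective hφ
  rw [Module.finrank_eq_card_basis bE, Module.finrank_eq_card_basis bF, Fintype.card_fin, Fintype.card_fin] at this
  omega

end DegenGenLib

end
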