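import Groth.Agent.DegenGenLib.Chart
import Mathlib.RingTheory.Smooth.Basic
import Mathlib.RingTheory.Ideal.Quotient.Nilpotent

/-!
# The universal chart is smooth
-/

set_option autoImplicit false
set_option linter.style.haveILetI false

noncomputable section

open Matrix MvPolynomial

namespace DegenGenLib

universe u

variable {k A : Type u} [Field k] [CommRing A] [Algebra k A] {f e r m : ℕ}

/-- The family of matrices spans all matrices supported in `S`, and is supported in `S`. -/
def Spans (S : Set (Fin f × Fin e)) (a : Fin m → Matrix (Fin f) (Fin e) A) : Prop :=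
  (∀ p ∈ S, ∃ β : Fin m → A, ∀ i j, (∑ v, β v * a v i j) = if (i, j) = p then 1 else 0) ∧
    ∀ v i j, (i, j) ∉ S → a v i j = 0

/-- The universal combination. -/
def univ (a : Fin m → Matrix (Fin f) (Fin e) A) : Matrix (Fin f) (Fin e) (MvPolynomial (Fin m) A) :=
  Matrix.of fun i j => ∑ v, X v * MvPolynomial.C (a v i j)

theorem univ_map {B : Type*} [CommRing B] (a : Fin m → Matrix (Fin f) (Fin e) A)
    (g : MvPolynomial (Fin m) A →+* B) (i : Fin f) (j : Fin e) :
    (univ a).map g i j = ∑ v, g (X v) * g (MvPolynomial.C (a v i j)) := by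
  simp [univ, map_sum, map_mul]

variable (a : Fin m → Matrix (Fin f) (Fin e) A) (R : Fin r → Fin f) (C : Fin r → Fin e)

theorem formallySmooth_univ (hA : Algebra.FormallySmooth k A) (S : Set (Fin f × Fin e)) (ha : Spans S a)
    (hS : ∀ i ∉ Set.range R, ∀ j ∉ Set.range C, (i, j) ∈ S) :
    Algebra.FormallySmooth k (Chart (univ a) R C) := by
  haveI := hA
  classical
  have ha' : ∀ p, ∃ β : Fin m → A, p ∈ S → ∀ i j, (∑ v, β v * a v i j) = if (i, j) = p then 1 else 0 := fun p =>
    if h : p ∈ S then ⟨(ha.1 p h).choose, fun _ => (ha.1 p h).choose_spec⟩ else ⟨0, fun h' => absurd h' h⟩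
  choose β hβ using ha'
  haveI : Algebra.FormallySmooth k (MvPolynomial (Fin m) A) := Algebra.FormallySmooth.comp k A _
  refine Algebra.FormallySmooth.of_comp_surjective fun B _ _ I hI φ => ?_
  let P := MvPolynomial (Fin m) A
  let U := Chart (univ a) R C
  let π : B →+* B ⧸ I := Ideal.Quotient.mk I
  let ι : P →ₐ[k] U := IsScalarTower.toAlgHom k P U
  have hnil : IsNilpotent I := ⟨2, hI⟩
  obtain ⟨ψ, hψ⟩ := Algebra.FormallySmooth.comp_surjective k P (B := B) I hI (φ.comp ι)
  have hψ' : π.comp ψ.toRingHom = φ.toRingHom.comp ι.toRingHom := congrArg AlgHom.toRingHom hψ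
  let M₀ : Matrix (Fin f) (Fin e) B := (univ a).map ψ
  have hM₀π : M₀.map π = ((univ a).map (algebraMap P U)).map φ := by
    ext i j
    exact RingHom.congr_fun hψ' (univ a i j)
  have hu₀ : IsUnit (M₀.submatrix R C).det := by
    rw [← IsNilpotent.isUnit_quotient_mk_iff hnil, map_det π, hM₀π]
    exact isUnit_det_map φ.toRingHom (chart_isUnit' _ R C)
  have hst : ∀ i j, star M₀ R C i j - M₀ i j ∈ I := by
    intro i j
    rw [← Ideal.Quotient.mk_eq_mk_iff_sub_mem]
    show (star M₀ R C).map π i j = M₀.map π i j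
    rw [map_star π hu₀, hM₀π]
    have h := congrArg (fun N : Matrix (Fin f) (Fin e) U => N.map φ) (star_eq_of_J (chart_isUnit' (univ a) R C)
      (chart_J _ R C))
    exact congrFun (congrFun ((map_star φ.toRingHom (chart_isUnit' (univ a) R C)).symm.trans h) i) j
  let ψA : A →ₐ[k] B := ψ.comp (IsScalarTower.toAlgHom k A P)
  let D : Fin f × Fin e → B := fun p => star M₀ R C p.1 p.2 - M₀ p.1 p.2
  have hD0 : ∀ p, p ∉ S → D p = 0 := fun p hp => by
    by_cases hi : p.1 ∈ Set.range R
    · obtain ⟨x, hx⟩ := hi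
      show star M₀ R C p.1 p.2 - M₀ p.1 p.2 = 0
      rw [← hx, sub_eq_zero]
      exact congrFun (congrFun (star_row hu₀) x) p.2
    · by_cases hj : p.2 ∈ Set.range C
      · obtain ⟨x, hx⟩ := hj
        show star M₀ R C p.1 p.2 - M₀ p.1 p.2 = 0
        rw [← hx, sub_eq_zero]
        exact congrFun (congrFun (star_col hu₀) p.1) x
      · exact absurd (hS p.1 hi p.2 hj) hp
  let t : Fin m → B := fun v => ψ (X v) + ∑ p, D p * ψA (β p v)
  let ψ' : P →+* B := MvPolynomial.eval₂Hom ψA.toRingHom t
  have hC : ∀ z : A, ψ' (MvPolynomial.C z) = ψ (MvPolynomial.C z) := fun z => eval₂Hom_C _ _ _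
  have hX : ∀ v, ψ' (X v) = t v := fun v => eval₂Hom_X' _ _ _
  have hM : (univ a).map ψ' = star M₀ R C := by
    ext i j
    rw [univ_map]
    simp only [hC, hX, t, add_mul, Finset.sum_add_distrib]
    have h1 : ∑ v, ψ (X v) * ψ (MvPolynomial.C (a v i j)) = M₀ i j := (univ_map a ψ.toRingHom i j).symm
    have h2 : ∑ v, (∑ p, D p * ψA (β p v)) * ψ (MvPolynomial.C (a v i j)) = D (i, j) := by
      calc _ = ∑ p, D p * ψA (∑ v, β p v * a v i j) := by
            simp only [Finset.sum_mul, map_sum, map_mul, Finset.mul_sum]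
            rw [Finset.sum_comm]
            refine Finset.sum_congr rfl fun p _ => Finset.sum_congr rfl fun v _ => ?_
            rw [mul_assoc]
            rfl
        _ = D (i, j) := by
            rw [Finset.sum_eq_single (i, j)]
            · by_cases h : (i, j) ∈ S
              · rw [hβ _ h, if_pos rfl, map_one, mul_one]
              · rw [hD0 _ h, zero_mul]
            · intro p _ hp
              by_cases h : p ∈ S
              · rw [hβ _ h, if_neg (Ne.symm hp), map_zero, mul_zero]
              · rw [hD0 _ h, zero_mul]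
            · simp
    rw [h1, h2]
    exact add_sub_cancel _ _
  have hJ : J ((univ a).map ψ') (r + 1) = ⊥ := by rw [hM, J_star]
  have hu : IsUnit (ψ' ((univ a).submatrix R C).det) := by
    rw [map_det ψ', hM]
    have h : (star M₀ R C).submatrix R C = M₀.submatrix R C :=
      congrArg (fun N : Matrix (Fin r) (Fin e) B => N.submatrix id C) (star_row hu₀)
    rwa [h]
  obtain ⟨L, hL⟩ := chart_lift_exists (R := R) (C := C) ψ' hJ hu
  have hLk : ∀ c : k, L (algebraMap k U c) = algebraMap k B c := by
    intro c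
    rw [IsScalarTower.algebraMap_apply k P U, ← RingHom.comp_apply, hL,
      show algebraMap k P c = MvPolynomial.C (algebraMap k A c) from rfl, hC]
    exact ψ.commutes c
  refine ⟨{ L with commutes' := hLk }, AlgHom.ext fun z => ?_⟩
  refine RingHom.congr_fun (chart_hom_ext (g := π.comp L) (g' := φ.toRingHom) ?_) z
  rw [RingHom.comp_assoc, hL]
  refine MvPolynomial.ringHom_ext (fun z => ?_) fun v => ?_
  · show π (ψ' (MvPolynomial.C z)) = _
    rw [hC]
    exact RingHom.congr_fun hψ' _
  · show π (ψ' (X v)) = _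
    rw [hX, map_add]
    have h0 : π (∑ p, D p * ψA (β p v)) = 0 :=
      Ideal.Quotient.eq_zero_iff_mem.2 (Ideal.sum_mem _ fun p _ => I.mul_mem_right _ (hst p.1 p.2))
    rw [h0, add_zero]
    exact RingHom.congr_fun hψ' _

theorem smooth_univ [Algebra.Smooth k A] (S : Set (Fin f × Fin e)) (ha : Spans S a)
    (hS : ∀ i ∉ Set.range R, ∀ j ∉ Set.range C, (i, j) ∈ S) : Algebra.Smooth k (Chart (univ a) R C) := by
  haveI := formallySmooth_univ a R C inferInstance S ha hS (k := k)
  exact ⟨inferInstance, Algebra.FinitePresentation.of_finiteType.1 inferInstance⟩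

end DegenGenLib

end
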