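import Groth.Agent.DegenGenLib.Univ
import Groth.Agent.SMTLib.MaxHeight
import Mathlib.RingTheory.Ideal.KrullsHeightTheorem
import Mathlib.LinearAlgebra.FiniteDimensional.Basic

/-!
# The dimension of the universal chart
-/

set_option autoImplicit false
set_option linter.style.haveILetI false

noncomputable section

open Matrix MvPolynomial

namespace DegenGenLib

universe u

variable {k A : Type u} [Field k] [CommRing A] [Algebra k A] {f e r m : ℕ}

/-- The positions in the rows `R` or the columns `C`. -/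
abbrev Pos (R : Fin r → Fin f) (C : Fin r → Fin e) :=
  {p : Fin f × Fin e // p.1 ∈ Set.range R ∨ p.2 ∈ Set.range C}

theorem card_compl {N : ℕ} (R : Fin r → Fin N) (hR : Function.Injective R) [Fintype {i // i ∉ Set.range R}] :
    Fintype.card {i // i ∉ Set.range R} = N - r := by
  classical
  rw [Fintype.card_subtype_compl, Fintype.card_fin]
  have h : Fintype.card {i // i ∈ Set.range R} = r :=
    (Fintype.card_congr (Equiv.ofInjective R hR)).symm.trans (Fintype.card_fin r)
  omega

theorem card_pos (R : Fin r → Fin f) (C : Fin r → Fin e) (hR : Function.Injective R) (hC : Function.Injective C)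
    [Fintype (Pos R C)] : Fintype.card (Pos R C) + (f - r) * (e - r) = f * e := by
  classical
  have h1 : Fintype.card {p : Fin f × Fin e // ¬ (p.1 ∈ Set.range R ∨ p.2 ∈ Set.range C)} = (f - r) * (e - r) := by
    rw [← card_compl R hR, ← card_compl C hC, ← Fintype.card_prod]
    exact Fintype.card_congr
      { toFun := fun p => (⟨p.1.1, fun h => p.2 (Or.inl h)⟩, ⟨p.1.2, fun h => p.2 (Or.inr h)⟩)
        invFun := fun p => ⟨(p.1.1, p.2.1), fun h => h.elim p.1.2 p.2.2⟩
        left_inv := fun p => rfl
        right_inv := fun p => rfl }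
  have h2 := Fintype.card_subtype_compl (fun p : Fin f × Fin e => p.1 ∈ Set.range R ∨ p.2 ∈ Set.range C)
  have h3 := Fintype.card_subtype_le (fun p : Fin f × Fin e => p.1 ∈ Set.range R ∨ p.2 ∈ Set.range C)
  rw [Fintype.card_prod, Fintype.card_fin, Fintype.card_fin] at h2 h3
  simp only [Pos, Fintype.card_eq_nat_card] at h1 h2 h3 ⊢
  omega

set_option maxHeartbeats 1000000 in
/-- A quotient of the universal chart over a point of `Spec A` has dimension at most the number of coordinates. -/
theorem dim_fibre_le (a : Fin m → Matrix (Fin f) (Fin e) A) (R : Fin r → Fin f) (C : Fin r → Fin e)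
    (S : Set (Fin f × Fin e)) (ha : Spans S a) (hS : ∀ i ∉ Set.range R, ∀ j ∉ Set.range C, (i, j) ∈ S)
    (hR : Function.Injective R) (hC : Function.Injective C) (χ : A →ₐ[k] k) (Ub : Type u) [CommRing Ub]
    [Algebra k Ub] (π : Chart (univ a) R C →+* Ub) (hπ : Function.Surjective π)
    (hχ : ∀ z : A, π (algebraMap (MvPolynomial (Fin m) A) (Chart (univ a) R C) (MvPolynomial.C z)) =
      algebraMap k Ub (χ z)) :
    ringKrullDim Ub + (((f - r) * (e - r) : ℕ) : WithBot ℕ∞) ≤ (m : WithBot ℕ∞) := by
  classical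
  obtain ⟨ha1, ha0⟩ := ha
  choose β hβ using fun p : S => ha1 p.1 p.2
  let P := MvPolynomial (Fin m) A
  let U := Chart (univ a) R C
  let q : P →+* Ub := π.comp (algebraMap P U)
  let x : Fin m → Ub := fun v => q (X v)
  let N : Matrix (Fin f) (Fin e) Ub := (univ a).map q
  have hN : ∀ i j, N i j = ∑ v, χ (a v i j) • x v := fun i j => by
    refine (univ_map a q i j).trans (Finset.sum_congr rfl fun v _ => ?_)
    rw [Algebra.smul_def, mul_comm]
    exact congrArg (· * x v) (hχ _)
  have hNu : IsUnit (N.submatrix R C).det := isUnit_det_map π (chart_isUnit' (univ a) R C)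
  have hNJ : J N (r + 1) = ⊥ := by
    have : N = ((univ a).map (algebraMap P U)).map π := rfl
    rw [this, ← J_map, chart_J, Ideal.map_bot]
  -- the linear coordinates
  let w : S → (Fin m → k) := fun p v => χ (a v p.1.1 p.1.2)
  have hw : LinearIndependent k w := by
    rw [Fintype.linearIndependent_iff]
    intro lam hlam p
    have h : ∀ v, ∑ p', lam p' * χ (a v p'.1.1 p'.1.2) = 0 := fun v => by
      simpa [w] using congrFun hlam v
    have h2 : ∑ v, χ (β p v) * ∑ p', lam p' * χ (a v p'.1.1 p'.1.2) = 0 := by simp [h]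
    calc lam p = ∑ p', lam p' * χ (∑ v, β p v * a v p'.1.1 p'.1.2) := by
          rw [Finset.sum_eq_single p]
          · rw [hβ, if_pos rfl, map_one, mul_one]
          · intro p' _ hp'
            rw [hβ, if_neg (fun h => hp' (Subtype.ext h)), map_zero, mul_zero]
          · simp
      _ = 0 := by
          rw [← h2]
          simp only [map_sum, map_mul, Finset.mul_sum]
          rw [Finset.sum_comm]
          exact Finset.sum_congr rfl fun v _ => Finset.sum_congr rfl fun p' _ => by ring
  obtain ⟨V, hV⟩ := Submodule.exists_isCompl (Submodule.span k (Set.range w))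
  have hdim : Fintype.card S + Module.finrank k V = m := by
    have := Submodule.finrank_add_eq_of_isCompl hV
    rw [finrank_span_eq_card hw, Module.finrank_fin_fun] at this
    exact this
  let ℓ : (Fin m → k) →ₗ[k] Ub := Fintype.linearCombination k x
  have hℓ : ∀ p : S, ℓ (w p) = N p.1.1 p.1.2 := fun p => by
    rw [hN, Fintype.linearCombination_apply]
  let bV := Module.finBasis k V
  -- the coordinate ring
  let σ := {p : Pos R C // p.1 ∈ S} ⊕ Fin (Module.finrank k V)
  let G : Matrix (Fin f) (Fin e) (MvPolynomial σ k) := Matrix.of fun i j =>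
    if h : (i ∈ Set.range R ∨ j ∈ Set.range C) ∧ (i, j) ∈ S then X (Sum.inl ⟨⟨(i, j), h.1⟩, h.2⟩) else 0
  let θ₀ : MvPolynomial σ k →+* Ub :=
    (MvPolynomial.aeval (Sum.elim (fun p : {p : Pos R C // p.1 ∈ S} => N p.1.1.1 p.1.1.2) fun l => ℓ (bV l).1)).toRingHom
  have hθX : ∀ s, θ₀ (X s) = Sum.elim (fun p : {p : Pos R C // p.1 ∈ S} => N p.1.1.1 p.1.1.2) (fun l => ℓ (bV l).1) s := fun s =>
    aeval_X _ _
  have hG : ∀ i j, (i ∈ Set.range R ∨ j ∈ Set.range C) → θ₀ (G i j) = N i j := by
    intro i j h
    by_cases h' : (i, j) ∈ S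
    · simp only [G, Matrix.of_apply, dif_pos (And.intro h h'), hθX, Sum.elim_inl]
    · rw [hN]
      simp only [G, Matrix.of_apply, dif_neg (fun h'' => h' (And.right h'')), map_zero, ha0 _ i j h', zero_smul,
        Finset.sum_const_zero]
  have hGrow : (G.map θ₀).submatrix R id = N.submatrix R id := Matrix.ext fun i j => hG _ _ (Or.inl ⟨i, rfl⟩)
  have hGcol : (G.map θ₀).submatrix id C = N.submatrix id C := Matrix.ext fun i j => hG _ _ (Or.inr ⟨j, rfl⟩)
  have hGRC : (G.map θ₀).submatrix R C = N.submatrix R C :=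
    congrArg (fun T : Matrix (Fin r) (Fin e) Ub => T.submatrix id C) hGrow
  have hu₀ : IsUnit (θ₀ (G.submatrix R C).det) := by
    rw [map_det θ₀, hGRC]
    exact hNu
  let L := Localization.Away (G.submatrix R C).det
  let Θ : L →+* Ub := IsLocalization.Away.lift (S := L) (G.submatrix R C).det hu₀
  have hΘ : Θ.comp (algebraMap (MvPolynomial σ k) L) = θ₀ := IsLocalization.Away.lift_comp _ hu₀
  let GM := G.map (algebraMap (MvPolynomial σ k) L)
  have hGMu : IsUnit (GM.submatrix R C).det :=
    map_det (algebraMap (MvPolynomial σ k) L) G R C ▸ IsLocalization.Away.algebraMap_isUnit _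
  have hGM : GM.map Θ = G.map θ₀ := by
    ext i j
    exact RingHom.congr_fun hΘ _
  have hNall : ∀ i j, N i j ∈ Θ.range := by
    intro i j
    refine ⟨star GM R C i j, ?_⟩
    have h := map_star Θ hGMu
    have h2 : star (G.map θ₀) R C = star N R C := by
      simp only [star, hGrow, hGcol, hGRC]
    rw [hGM, h2, star_eq_of_J hNu hNJ] at h
    exact congrFun (congrFun h i) j
  have hk : ∀ c : k, algebraMap k Ub c ∈ Θ.range := fun c =>
    ⟨algebraMap (MvPolynomial σ k) L (MvPolynomial.C c), (RingHom.congr_fun hΘ _).trans (aeval_C _ _)⟩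
  have hℓall : ∀ z, ℓ z ∈ Θ.range := by
    let T : Subalgebra k Ub := { Θ.range.toSubsemiring with algebraMap_mem' := hk }
    let S : Submodule k (Fin m → k) := (Subalgebra.toSubmodule T).comap ℓ
    have h1 : Submodule.span k (Set.range w) ≤ S := by
      rw [Submodule.span_le]
      rintro _ ⟨p, rfl⟩
      show ℓ (w p) ∈ Θ.range
      rw [hℓ]
      exact hNall _ _
    have h2 : V ≤ S := by
      intro z hz
      have hz' := congrArg (fun t : V => (t : Fin m → k)) (bV.sum_repr ⟨z, hz⟩)
      simp only [Submodule.coe_sum, Submodule.coe_smul] at hz'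
      rw [← hz']
      refine Submodule.sum_mem _ fun l _ => Submodule.smul_mem _ _ ?_
      exact ⟨algebraMap (MvPolynomial σ k) L (X (Sum.inr l)), (RingHom.congr_fun hΘ _).trans (hθX _)⟩
    intro z
    exact (hV.sup_eq_top ▸ sup_le h1 h2 : (⊤ : Submodule k (Fin m → k)) ≤ S) trivial
  have hq : ∀ z : P, q z ∈ Θ.range := by
    intro z
    induction z using MvPolynomial.induction_on with
    | C z => exact (hχ z).symm ▸ hk _
    | add p p' hp hp' => rw [map_add]; exact add_mem hp hp'
    | mul_X p v hp =>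
      rw [map_mul]
      refine mul_mem hp ?_
      have := hℓall (Pi.single v 1)
      rwa [Fintype.linearCombination_apply_single, one_smul] at this
  have hΘsurj : Function.Surjective Θ := by
    intro y
    obtain ⟨z, rfl⟩ := hπ y
    obtain ⟨b, l, hl⟩ := chart_exists z
    obtain ⟨ub, hub⟩ := hq b
    obtain ⟨ud, hud⟩ : ∃ ud : Lˣ, Θ ud = q ((univ a).submatrix R C).det := by
      refine ⟨hGMu.unit, ?_⟩
      rw [IsUnit.unit_spec, map_det Θ, hGM, hGRC, map_det q]
    refine ⟨ub * ↑(ud⁻¹ ^ l), ?_⟩
    have h := congrArg π hl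
    rw [map_mul, map_pow] at h
    change π z * q ((univ a).submatrix R C).det ^ l = q b at h
    rw [map_mul, hub, ← h, ← hud, mul_assoc, ← map_pow, ← map_mul, ← Units.val_pow_eq_pow_val, ← Units.val_mul,
      ← mul_pow, mul_inv_cancel, one_pow, Units.val_one, map_one, mul_one]
  have hσ : Fintype.card σ + (f - r) * (e - r) = m := by
    rw [Fintype.card_sum, Fintype.card_fin]
    have := card_pos R C hR hC
    have h1 : Fintype.card {p : Pos R C // p.1 ∈ S} + (f - r) * (e - r) = Fintype.card S := by
      have e1 : Fintype.card {p : Pos R C // p.1 ∉ S} = Fintype.card {p : Fin f × Fin e // p ∉ S} :=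
        Fintype.card_congr
          { toFun := fun p => ⟨p.1.1, p.2⟩
            invFun := fun p => ⟨⟨p.1, by
              by_contra h
              push_neg at h
              exact p.2 (hS _ h.1 _ h.2)⟩, p.2⟩
            left_inv := fun p => rfl
            right_inv := fun p => rfl }
      have e2 := Fintype.card_subtype_compl (fun p : Pos R C => p.1 ∈ S)
      have e3 := Fintype.card_subtype_compl (fun p : Fin f × Fin e => p ∈ S)
      have e4 := Fintype.card_subtype_le (fun p : Pos R C => p.1 ∈ S)
      have e5 := Fintype.card_subtype_le (fun p : Fin f × Fin e => p ∈ S)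
      rw [Fintype.card_prod, Fintype.card_fin, Fintype.card_fin] at e3 e5
      have e6 : Nat.card S = Nat.card {p : Fin f × Fin e // p ∈ S} := rfl
      simp only [Pos, Fintype.card_eq_nat_card] at e1 e2 e3 e4 e5 this ⊢
      omega
    omega
  calc ringKrullDim Ub + (((f - r) * (e - r) : ℕ) : WithBot ℕ∞)
      ≤ ringKrullDim L + (((f - r) * (e - r) : ℕ) : WithBot ℕ∞) :=
        add_le_add (ringKrullDim_le_of_surjective Θ hΘsurj) le_rfl
    _ ≤ ringKrullDim (MvPolynomial σ k) + (((f - r) * (e - r) : ℕ) : WithBot ℕ∞) :=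
        add_le_add (ringKrullDim_localization_le (Submonoid.powers (G.submatrix R C).det) L) le_rfl
    _ = (m : WithBot ℕ∞) := by
        rw [MvPolynomial.ringKrullDim_of_isNoetherianRing, ringKrullDim_eq_zero_of_field, zero_add, ← hσ,
          Nat.card_eq_fintype_card]
        push_cast
        rfl

variable [IsAlgClosed k]

/-- Maximal ideals of the universal chart have height at most the expected dimension. -/
theorem height_univ_le [IsDomain A] [Algebra.FiniteType k A] (n : ℕ) (hn : ringKrullDim A = n)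
    (a : Fin m → Matrix (Fin f) (Fin e) A) (R : Fin r → Fin f) (C : Fin r → Fin e)
    (S : Set (Fin f × Fin e)) (ha : Spans S a) (hS : ∀ i ∉ Set.range R, ∀ j ∉ Set.range C, (i, j) ∈ S)
    (Q : Ideal (Chart (univ a) R C)) [Q.IsMaximal] :
    Q.height + (((f - r) * (e - r) : ℕ) : ℕ∞) ≤ ((n + m : ℕ) : ℕ∞) := by
  classical
  let P := MvPolynomial (Fin m) A
  let U := Chart (univ a) R C
  haveI : IsNoetherianRing A := Algebra.FiniteType.isNoetherianRing k A
  haveI : IsNoetherianRing U := Algebra.FiniteType.isNoetherianRing k U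
  obtain ⟨χQ, hχQ⟩ := exists_point (k := k) Q
  obtain ⟨hR, hC⟩ := injective_of_isUnit (M := ((univ a).map (algebraMap P U)).map χQ) (R := R) (C := C)
    (isUnit_det_map χQ.toRingHom (chart_isUnit' (univ a) R C))
  let χ : A →ₐ[k] k := χQ.comp (IsScalarTower.toAlgHom k A U)
  let 𝔞 : Ideal A := RingHom.ker χ.toRingHom
  haveI : 𝔞.IsMaximal := RingHom.ker_isMaximal_of_surjective χ.toRingHom fun c => ⟨algebraMap k A c, χ.commutes c⟩
  haveI : Q.LiesOver 𝔞 := ⟨by
    rw [Ideal.under_def, ← hχQ]
    exact RingHom.comap_ker χQ.toRingHom (algebraMap A U) ▸ rfl⟩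
  have h1 := Ideal.height_le_height_add_of_liesOver 𝔞 Q
  let Ub := U ⧸ 𝔞.map (algebraMap A U)
  have h2 : ringKrullDim Ub + (((f - r) * (e - r) : ℕ) : WithBot ℕ∞) ≤ (m : WithBot ℕ∞) := by
    refine dim_fibre_le a R C S ha hS hR hC χ Ub (Ideal.Quotient.mk _) Ideal.Quotient.mk_surjective fun z => ?_
    rw [IsScalarTower.algebraMap_apply k A Ub]
    show Ideal.Quotient.mk _ (algebraMap P U (MvPolynomial.C z)) = Ideal.Quotient.mk _ (algebraMap A U (algebraMap k A (χ z)))
    rw [Ideal.Quotient.eq, show (MvPolynomial.C z : P) = algebraMap A P z from rfl, ← IsScalarTower.algebraMap_apply,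
      ← map_sub]
    refine Ideal.mem_map_of_mem _ ?_
    show χ (z - algebraMap k A (χ z)) = 0
    rw [map_sub, AlgHom.commutes]
    exact sub_self _
  have hle : 𝔞.map (algebraMap A U) ≤ Q :=
    Ideal.map_le_iff_le_comap.2 (Ideal.LiesOver.over (p := 𝔞) (P := Q)).le
  haveI : (Q.map (Ideal.Quotient.mk (𝔞.map (algebraMap A U)))).IsPrime := Ideal.isPrime_map_quotientMk_of_isPrime hle
  have h3 := Ideal.height_le_ringKrullDim_of_isPrime (I := Q.map (Ideal.Quotient.mk (𝔞.map (algebraMap A U))))
  have h4 : 𝔞.height = (n : ℕ∞) := WithBot.coe_inj.1 ((MaxHeight.affine_domain k A 𝔞).trans hn)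
  have h5 : (Q.map (Ideal.Quotient.mk (𝔞.map (algebraMap A U)))).height + (((f - r) * (e - r) : ℕ) : ℕ∞) ≤ (m : ℕ∞) :=
    WithBot.coe_le_coe.1 (by push_cast; exact le_trans (add_le_add h3 le_rfl) (by exact_mod_cast h2))
  rw [h4] at h1
  calc Q.height + _ ≤ (n : ℕ∞) + (Q.map (Ideal.Quotient.mk (𝔞.map (algebraMap A U)))).height + _ :=
        add_le_add h1 le_rfl
    _ ≤ _ := by
        rw [add_assoc, Nat.cast_add]
        exact add_le_add le_rfl h5

end DegenGenLib

end
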